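import Cfsg.Agent.H620.ONSixteen
import Cfsg.Agent.H680.ONThirtyOne_m3
import Cfsg.Agent.TAB.ON.Op
import Cfsg.Agent.H710.R4.CharON
import Cfsg.Agent.KFacts.ON.Words_m3
import Cfsg.Agent.KFacts.MulSpor.ONWords
import Cfsg.Agent.H210.ON3.Cent
import Cfsg.Agent.H535.Ore.ON
import Cfsg.Agent.TAB.Sm1.Fin_m3
import Cfsg.Agent.FastGrp
import Cfsg.Agent.Prune
set_option linter.all false

section
prune_inst 0x7ffffffbbfffbfffffff7e7ffffddffe33d4dfffffdffb4bfffdfbffffffa3ff3be5fbaf9de4f8ffdef7e2be38b87853ff7eeeffef6bdc7ffffd5ff45ffbee5ff7ffbfad71d6bd349ffe6ffffbf37fceffffffffffffffffffffffffffffffffffffffffffff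

-- part: TAB/ON/Two
section
set_option linter.all false
open scoped Cfsg.Agent.FastGrp

/-!
# The O'Nan group : centralizers of the elements of orders 4, 8, 16 (helper45, TAB)
-/

set_option autoImplicit false
set_option maxRecDepth 100000
set_option Elab.async false

namespace Cfsg.Agent.TAB.ON

open Cfsg Subgroup
open Cfsg.Spor (ON)
open Cfsg.Spor.ON (Gen)
open Cfsg.Agent.SporadicB.ON45Word (on)
open Cfsg.Agent.KFacts.ON.Words (hs vv v)
open Cfsg.Agent.KFacts.ON.Struct
open Cfsg.Agent.KFacts.ON.Cent (finite_ON card_K0)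
open Cfsg.Agent.UGT.C.BalONTab Cfsg.Agent.UGT.C.BalONInv
open Cfsg.Agent.H620.ONStruct (exists_pi orderOf_pi mem_center card_ON)
open Cfsg.Agent.H620.ONSixteen (E_sq m4 exists_conj_T no_cube_T)
open Cfsg.Agent.H474.ONC (mem_cent pow_cases exists_comm mem_J_of_odd loc_five loc_seven v_sq)
open Cfsg.Agent.CpAutON.Codes (E_six E_seven v_four)
open Cfsg.Agent.ONType.TupK (K0)

theorem x4_sq : E 4 * E 4 = on .f := by rw [E_sq (by norm_num), m4, E_one]

theorem x4_four : E 4 ^ 2 ^ 2 = 1 := by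
  rw [show 2 ^ 2 = 2 * 2 by norm_num, pow_mul, pow_two, pow_two, x4_sq, ff]

theorem x4_J : E 4 ∈ J := by
  rw [mem_J, ← E_six, E_mul hs (by norm_num), E_mul hs (by norm_num)]
  exact congrArg E (by decide +kernel)

theorem x4_not : E 4 ∉ zpowers v := by
  intro h
  have key : ∀ c < 512, E 4 = E c → 4 = c := fun c hc h => E_inj hs (by norm_num) hc h
  rcases pow_cases v_four h with h | h | h | h
  · exact absurd (key 0 (by norm_num) (h.trans E_zero.symm)) (by norm_num)
  · exact absurd (key 6 (by norm_num) (h.trans E_six.symm)) (by norm_num)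
  · exact absurd (key 1 (by norm_num) (h.trans (v_sq.trans E_one.symm))) (by norm_num)
  · exact absurd (key 7 (by norm_num) (h.trans (by rw [E_seven, pow_succ, v_sq]))) (by norm_num)

theorem two_x4 : IsPGroup 2 (centralizer ({E 4} : Set ON)) := by
  have := finite_ON
  have : Fact (Nat.Prime 2) := ⟨Nat.prime_two⟩
  refine IsPGroup.iff_card.2 ⟨_, Nat.eq_prime_pow_of_unique_prime_dvd Nat.card_pos.ne' fun {q} hq h => ?_⟩
  by_contra h2
  obtain ⟨u, hu, hux⟩ := exists_comm hq h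
  have hK : u ∈ K0 := by
    rw [mem_K0, ← x4_sq]
    exact ((show Commute u (E 4) from hux).mul_right hux).eq
  have hJ : u ∈ J := mem_J_of_odd hK (hq.odd_of_ne_two h2) (by rw [← hu, pow_orderOf_eq_one])
  have hf : E 4 * v ^ 2 = v ^ 2 * E 4 := ((show Commute (E 4) v from mem_J.1 x4_J).pow_right 2).eq
  have h3 : q ∣ 2 ^ 9 * (3 ^ 2 * (5 * 7)) := by
    have h4 := orderOf_dvd_natCard (⟨u, hK⟩ : K0)
    rwa [orderOf_mk, hu, card_K0] at h4
  apply x4_not
  rcases (Nat.Prime.dvd_mul hq).1 h3 with h4 | h4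
  · exact absurd ((Nat.prime_dvd_prime_iff_eq hq Nat.prime_two).1 (hq.dvd_of_dvd_pow h4)) h2
  rcases (Nat.Prime.dvd_mul hq).1 h4 with h4 | h4
  · obtain rfl := (Nat.prime_dvd_prime_iff_eq hq Nat.prime_three).1 (hq.dvd_of_dvd_pow h4)
    obtain ⟨π, -, hk⟩ := exists_pi
    have : Finite ONType.Psl.PSL3 := CpAut.SmallP.PslFour.finite_PSL3
    have h5 := BpSpor.LFour.card_three (orderOf_pi hk (by norm_num) (by norm_num) hJ hu)
    have h6 : π ⟨E 4, x4_J⟩ ∈ centralizer ({π ⟨u, hJ⟩} : Set _) := by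
      rw [mem_centralizer_singleton_iff, ← map_mul, ← map_mul]
      exact congrArg π (Subtype.ext hux.symm)
    have h7 := (orderOf_dvd_natCard (⟨_, h6⟩ : centralizer ({π ⟨u, hJ⟩} : Set _))).trans h5
    rw [orderOf_mk] at h7
    have h8 : orderOf (π ⟨E 4, x4_J⟩) ∣ 4 := orderOf_dvd_of_pow_eq_one (by
      rw [← map_pow, ← map_one π]
      exact congrArg π (Subtype.ext x4_four))
    have h9 : π ⟨E 4, x4_J⟩ = 1 := orderOf_eq_one_iff.1 (Nat.eq_one_of_dvd_coprimes (by norm_num) h7 h8)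
    refine (mem_center (x := ⟨E 4, x4_J⟩)).1 ?_
    rw [← hk]
    exact h9
  rcases (Nat.Prime.dvd_mul hq).1 h4 with h4 | h4
  · obtain rfl := (Nat.prime_dvd_prime_iff_eq hq Nat.prime_five).1 h4
    exact (loc_five hu hJ).two hux.symm hf x4_four
  · obtain rfl := (Nat.prime_dvd_prime_iff_eq hq (by norm_num : Nat.Prime 7)).1 h4
    exact (loc_seven hu hJ).two hux.symm hf x4_four

theorem card_x4 : Nat.card (centralizer ({E 4} : Set ON)) ≤ 256 := by
  have := finite_ON
  have : Fact (Nat.Prime 2) := ⟨Nat.prime_two⟩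
  obtain ⟨h, hh⟩ := exists_conj_T two_x4
  let C := (centralizer ({E 4} : Set ON)).map (MulAut.conj h).toMonoidHom
  have h1 : C ≤ T := by
    rintro _ ⟨c, hc, rfl⟩
    exact hh c hc
  have h2 : Nat.card C = Nat.card (centralizer ({E 4} : Set ON)) := card_map_of_injective (MulAut.conj h).injective
  have h3 : Nat.card T = 512 := Schreier.ONTr.card_T hs
  by_contra h4
  obtain ⟨k, hk⟩ := card_dvd_of_le h1
  rw [h2, h3] at hk
  have h5 : k = 1 := by
    rcases k with _ | _ | k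
    · omega
    · rfl
    · nlinarith
  have h6 : C = T := eq_of_le_of_card_ge h1 (by rw [h2, h3, hk, h5, mul_one])
  have h7 : (h * E 4 * h⁻¹) * (h * E 4 * h⁻¹) = 1 := by
    rcases center_T hs (hh _ (mem_cent.2 rfl)) (fun t ht => by
      rw [← h6] at ht
      obtain ⟨c, hc, rfl⟩ := ht
      show h * E 4 * h⁻¹ * (h * c * h⁻¹) = h * c * h⁻¹ * (h * E 4 * h⁻¹)
      rw [conj_mul, conj_mul, mem_cent.1 hc]) with h8 | h8
    · rw [h8, one_mul]
    · rw [h8, ff]
  rw [conj_mul, x4_sq, conj_eq_one_iff] at h7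
  exact f_ne_one h7

/-- the number of the codes commuting with `c` -/
noncomputable def cntC (c : ℕ) : ℕ := ((List.range 512).filter fun g => Nat.beq (mu g c) (mu c g)).length

theorem card_inf {c : ℕ} (hc : c < 512) : Nat.card (centralizer ({E c} : Set ON) ⊓ T : Subgroup ON) = cntC c := by
  classical
  have h1 : ((List.range 512).filter fun g => Nat.beq (mu g c) (mu c g)).Nodup := List.nodup_range.filter _
  rw [cntC, ← List.toFinset_card_of_nodup h1, ← Fintype.card_coe, ← Nat.card_eq_fintype_card]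
  have h2 : ∀ g, g ∈ ((List.range 512).filter fun g => Nat.beq (mu g c) (mu c g)).toFinset ↔
      g < 512 ∧ mu g c = mu c g := fun g => by simp
  let F : ((List.range 512).filter fun g => Nat.beq (mu g c) (mu c g)).toFinset →
      (centralizer ({E c} : Set ON) ⊓ T : Subgroup ON) := fun g => ⟨E g.1, mem_inf.2 ⟨mem_cent.2 (by
    rw [E_mul hs ((h2 _).1 g.2).1, E_mul hs hc, ((h2 _).1 g.2).2]), E_mem _⟩⟩
  refine (Nat.card_congr (Equiv.ofBijective F ⟨fun a b hab => ?_, fun g => ?_⟩)).symm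
  · exact Subtype.ext (E_inj hs ((h2 _).1 a.2).1 ((h2 _).1 b.2).1 (congrArg Subtype.val hab))
  · obtain ⟨a, ha, h3⟩ := exists_E hs (mem_inf.1 g.2).2
    exact ⟨⟨a, (h2 _).2 ⟨ha, comm_of_code hs ha hc (h3 ▸ mem_cent.1 (mem_inf.1 g.2).1)⟩⟩, Subtype.ext h3.symm⟩

theorem cnt4 : cntC 4 = 256 := by decide +kernel
theorem cnt29 : cntC 29 = 32 := by decide +kernel
theorem cnt62 : cntC 62 = 32 := by decide +kernel
theorem cnt384 : cntC 384 = 16 := by decide +kernel
theorem cnt448 : cntC 448 = 16 := by decide +kernel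

theorem cent_x4 : centralizer ({E 4} : Set ON) ≤ T := by
  have := finite_ON
  refine inf_eq_left.1 (eq_of_le_of_card_ge inf_le_left ?_)
  rw [card_inf (by norm_num), cnt4]
  exact card_x4

theorem card_of_pow {c k : ℕ} (hc : c < 512) (h : E c ^ k = E 4) :
    Nat.card (centralizer ({E c} : Set ON)) = cntC c := by
  have h1 : centralizer ({E c} : Set ON) ≤ T := fun g hg => cent_x4 (by
    rw [mem_cent, ← h]
    exact ((show Commute g (E c) from mem_cent.1 hg).pow_right k).eq)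
  rw [← card_inf hc, inf_eq_left.2 h1]

theorem sq384 : E 384 ^ 2 = E 29 := by rw [pow_two, E_sq (by norm_num)]; exact congrArg E (by decide +kernel)
theorem sq448 : E 448 ^ 2 = E 62 := by rw [pow_two, E_sq (by norm_num)]; exact congrArg E (by decide +kernel)
theorem sq29 : E 29 ^ 2 = E 4 := by rw [pow_two, E_sq (by norm_num)]; exact congrArg E (by decide +kernel)
theorem sq62 : E 62 ^ 2 = E 4 := by rw [pow_two, E_sq (by norm_num)]; exact congrArg E (by decide +kernel)
theorem four384 : E 384 ^ 4 = E 4 := by rw [show 4 = 2 * 2 from rfl, pow_mul, sq384, sq29]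
theorem four448 : E 448 ^ 4 = E 4 := by rw [show 4 = 2 * 2 from rfl, pow_mul, sq448, sq62]

theorem order_16 {x : ON} (h : x ^ 4 = E 4) : orderOf x = 16 := by
  have h8 : x ^ 8 = on .f := by rw [show 8 = 4 * 2 from rfl, pow_mul, h, pow_two, x4_sq]
  exact orderOf_eq_prime_pow (p := 2) (n := 3) (h8 ▸ f_ne_one) (by
    rw [show 2 ^ (3 + 1) = 8 * 2 by norm_num, pow_mul, h8, pow_two, ff])

theorem conj29 : IsConj (E 29) (E 16) := isConj_iff.2 ⟨E 64, by
  rw [mul_inv_eq_iff_eq_mul, E_mul hs (by norm_num), E_mul hs (by norm_num)]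
  exact congrArg E (by decide +kernel)⟩

theorem conj62 : IsConj (E 62) (E 48) := isConj_iff.2 ⟨E 64, by
  rw [mul_inv_eq_iff_eq_mul, E_mul hs (by norm_num), E_mul hs (by norm_num)]
  exact congrArg E (by decide +kernel)⟩

/-- an element of order 16 is not conjugate to its cube -/
theorem not_conj_16 {x : ON} (hx16 : orderOf x = 16) : ¬ IsConj x (x ^ 3) := by
  have := finite_ON
  intro hc
  obtain ⟨k, hk⟩ := isConj_iff.1 hc
  have hpow : ∀ j : ℕ, k ^ j * x * (k ^ j)⁻¹ = x ^ (3 ^ j) := by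
    intro j
    induction j with
    | zero => simp
    | succ j ih =>
      have h1 : k ^ (j + 1) * x * (k ^ (j + 1))⁻¹ = k * (k ^ j * x * (k ^ j)⁻¹) * k⁻¹ := by
        rw [pow_succ']
        group
      rw [h1, ih, ← conj_pow, hk, ← pow_mul, pow_succ']
  obtain ⟨a, m, hm, hkm⟩ := Nat.exists_eq_two_pow_mul_odd (orderOf_pos k).ne'
  set k' := k ^ (m * m) with hk'
  have hk2 : k' ^ 2 ^ a = 1 := by
    rw [hk', ← pow_mul, show m * m * 2 ^ a = orderOf k * m by rw [hkm]; ring, pow_mul, pow_orderOf_eq_one,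
      one_pow]
  have hk3 : k' * x * k'⁻¹ = x ^ 3 := by
    rw [hk', hpow, pow_eq_pow_iff_modEq, hx16]
    obtain ⟨b, hb⟩ := hm
    have h1 : m * m = 4 * (b * b + b) + 1 := by rw [hb]; ring
    rw [h1, pow_succ, pow_mul]
    have h2 : (3 ^ 4) ^ (b * b + b) * 3 ≡ 1 ^ (b * b + b) * 3 [MOD 16] :=
      (Nat.ModEq.pow _ (by decide : 3 ^ 4 ≡ 1 [MOD 16])).mul_right 3
    rwa [one_pow, one_mul] at h2
  have hp1 : IsPGroup 2 (zpowers k') := by
    intro ⟨z, hz⟩
    obtain ⟨i, rfl⟩ := hz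
    refine ⟨a, Subtype.ext ?_⟩
    show (k' ^ i) ^ 2 ^ a = 1
    rw [← zpow_natCast, ← zpow_mul, mul_comm, zpow_mul, zpow_natCast, hk2, one_zpow]
  have hp2 : IsPGroup 2 (zpowers x) := IsPGroup.of_card (n := 4) (by rw [Nat.card_zpowers, hx16]; norm_num)
  have hnorm : zpowers k' ≤ Subgroup.normalizer ((zpowers x : Subgroup ON) : Set ON) := by
    rw [zpowers_le]
    exact H474.ONC.mem_normalizer_of_conj (hk3 ▸ npow_mem_zpowers x 3)
  have hQ : IsPGroup 2 (zpowers k' ⊔ zpowers x : Subgroup ON) := hp1.to_sup_of_normal_right' hp2 hnorm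
  obtain ⟨h, hh⟩ := exists_conj_T hQ
  refine no_cube_T (hh x (mem_sup_right (mem_zpowers x))) (hh k' (mem_sup_left (mem_zpowers k'))) ?_ ?_
  · intro h3
    rw [conj_pow, conj_eq_one_iff] at h3
    have h5 := orderOf_dvd_of_pow_eq_one h3
    rw [hx16] at h5
    norm_num at h5
  · rw [conj_pow, ← hk3]
    group

end Cfsg.Agent.TAB.ON

private theorem dce_ecd107c739b5 : _root_.True := by
  try have : _root_.True := by simp only [_root_.Cfsg.Agent.TAB.ON.cntC.eq_1]
  exact _root_.True.intro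
end

-- part: TAB/ON/Fix
section
set_option linter.all false
open scoped Cfsg.Agent.FastGrp

/-!
# The O'Nan group : the types and the permutation character of degree 122760 (helper45, TAB)
-/

set_option autoImplicit false
set_option maxRecDepth 100000
set_option Elab.async false

namespace Cfsg.Agent.TAB.ON

open Cfsg Cfsg.Agent.TAB.Eng Cfsg.Agent.Characters
open Cfsg.Agent.Lib.PermNet Cfsg.Agent.Lib.PermNetOrbit
  Cfsg.Agent.ONType.RepDef Cfsg.Agent.ONType.Rep Cfsg.Agent.ONType.RepOrb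
open Cfsg.Agent.KFacts.ON.CentData (moved moved_false)
open Cfsg.Agent.KFacts.ON.Cent (finite_ON UG_lt card_H stab0)
open Cfsg.Agent.KFacts.MulSpor.ON (w)
open Cfsg.Agent.H707.Odd.ON (X smul_val mem_UG card_filter finite_X lt_land)
open Cfsg.Spor (ON)
open Cfsg.Spor.ON (Gen)

/-- the types `1A 2A 3A 4A 4B 5A 6A 7A 7B 8A 8B 10A 11A 12A 14A 15AB 16AB 16CD 19ABC 20AB 28AB 31AB` -/
def dON : Dat where
  n := 22
  N := 460815505920
  ordL := [1, 2, 3, 4, 4, 5, 6, 7, 7, 8, 8, 10, 11, 12, 14, 15, 16, 16, 19, 20, 28, 31]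
  cntL := [1, 2857239, 142227008, 5714478, 1800060570, 2560086144, 6400215360, 335871360, 9404398080, 14400484560,
    14400484560, 23040775296, 41892318720, 12800430720, 16457696640, 20480689152, 57601938240, 57601938240,
    72760343040, 46081550592, 32915393280, 29730032640]
  pwL := [[], [(1, 1)], [(1, 2)], [(1, 3), (2, 1)], [(1, 4), (2, 1)], [(1, 5)], [(1, 6), (2, 2), (3, 1)], [(1, 7)],
    [(1, 8)], [(1, 9), (2, 4), (4, 1)], [(1, 10), (2, 4), (4, 1)], [(1, 11), (2, 5), (5, 1)], [(1, 12)],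
    [(1, 13), (2, 6), (3, 3), (4, 2), (6, 1)], [(1, 14), (2, 7), (7, 1)], [(1, 15), (3, 5), (5, 2)],
    [(1, 16), (2, 9), (4, 4), (8, 1)], [(1, 17), (2, 10), (4, 4), (8, 1)], [(1, 18)],
    [(1, 19), (2, 11), (4, 5), (5, 3), (10, 1)], [(1, 20), (2, 14), (4, 7), (7, 3), (14, 1)], [(1, 21)]]

/-- the numbers of fixed points -/
def fixL : List ℤ := [122760, 360, 45, 120, 8, 0, 9, 15, 1, 4, 0, 0, 0, 3, 3, 0, 2, 0, 1, 0, 1, 0]

/-- the numbers of classes -/
def clsN (i : ℕ) : ℕ := [1, 1, 1, 1, 1, 1, 1, 1, 1, 1, 1, 1, 1, 1, 1, 2, 2, 2, 3, 2, 2, 2].getD i 0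

/-- the value of the key -/
def valON (i : ℕ) : ℤ := fixL.getD i 0

theorem okPow : dON.okPow = true := by decide +kernel
theorem okSep : dON.okSep valON = true := by decide +kernel
theorem okSum : dON.okSum = true := by decide +kernel

/-- the number of fixed points -/
noncomputable def fx (g : ON) : ℕ := Nat.card (MulAction.fixedBy X g)

theorem fx_char : IsCharacter ON fun g => (fx g : ℂ) := by
  have := finite_X
  exact S0157.isCharacter_fixedBy X

/-- the key -/
noncomputable def key : Key ON ℤ :=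
  haveI := finite_ON
  Key.ofChar fx_char (fun g => (fx g : ℚ)) fun _ => (Rat.cast_natCast _).symm

theorem key_iff (g : ON) (n : ℕ) : key.P g n ↔ fx g = n := by
  show (fx g : ℚ) = ((n : ℤ) : ℚ) ↔ _
  rw [Int.cast_natCast, Nat.cast_inj]

theorem key_val {g : ON} {a : ℤ} (h : key.P g a) : (fx g : ℤ) = a := by
  have h1 : (fx g : ℚ) = (a : ℚ) := h
  exact_mod_cast h1

theorem fx_conj {g h : ON} (hc : IsConj g h) : fx h = fx g := by
  obtain ⟨c, rfl⟩ := isConj_iff.1 hc
  exact (key_iff _ _).1 (key.conj g c _ ((key_iff _ _).2 rfl))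

theorem fx_pow {g : ON} {k : ℕ} (hk : Nat.Coprime k (orderOf g)) : fx (g ^ k) = fx g :=
  (key_iff _ _).1 (key.gal g k _ hk ((key_iff _ _).2 rfl))

/-- the fixed points of a word -/
noncomputable def FX (l : List Gen) : ℕ := Nat.land UG (Nat.xor UG (moved (nw l false) 17))

theorem fx_word (l : List Gen) (n : ℕ) (h : Nat.beq (pc 17 (FX l)) n = true) : fx (w l) = n := by
  classical
  have h1 : ∀ p, (FX l).testBit p = (UG.testBit p && (UG.testBit p ^^ (moved (nw l false) 17).testBit p)) :=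
    fun p => by rw [← Nat.testBit_xor, ← Nat.testBit_and]; rfl
  rw [fx, Nat.card_eq_fintype_card, Fintype.card_subtype]
  refine card_filter _ (FX l) n (fun x => ?_) (fun p hp => ?_) (lt_land ltG) h
  · rw [h1, mem_UG, Bool.true_and, Bool.true_xor, Bool.not_eq_true', moved_false (wok l false) (UG_lt (mem_UG x)),
      ← rho_word, MulAction.mem_fixedBy, Subtype.ext_iff, smul_val]
    rfl
  · rw [h1, Bool.and_eq_true] at hp
    exact hp.1

/-- the elements of order divisible by 5, 11 or 31 have no fixed points -/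
theorem fx_zero {g : ON} {p : ℕ} (hp : ¬ p ∣ 3753792) (h : p ∣ orderOf g) : fx g = 0 := by
  rw [fx, Nat.card_eq_zero]
  refine Or.inl ⟨fun ⟨⟨q, y, hy⟩, hq⟩ => hp ?_⟩
  have h1 : rho g q = q := congrArg Subtype.val (MulAction.mem_fixedBy.1 hq)
  have h2 : y⁻¹ * g * y⁻¹⁻¹ ∈ H := by
    rw [← stab0, inv_inv, map_mul, map_mul, Equiv.Perm.mul_apply, Equiv.Perm.mul_apply, hy, h1, ← hy, map_inv]
    exact (rho y).symm_apply_apply 0
  have h3 := orderOf_dvd_natCard (⟨_, h2⟩ : H)
  rw [Subgroup.orderOf_mk, orderOf_conj', card_H] at h3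
  exact h.trans h3

theorem c_f : fx (w [.f]) = 360 := fx_word _ _ (by decide +kernel)
theorem c_ab : fx (w [.a, .b]) = 45 := fx_word _ _ (by decide +kernel)
theorem c_v : fx (w [.a, .d, .g, .d, .g]) = 120 := fx_word _ _ (by decide +kernel)
theorem c_4B : fx (w [.d, .g, .d, .g]) = 8 := fx_word _ _ (by decide +kernel)
theorem c_6 : fx (w [.f, .a, .b, .a, .b]) = 9 := fx_word _ _ (by decide +kernel)
theorem c_12 : fx (w [.a, .d, .g, .d, .g, .a, .b]) = 3 := fx_word _ _ (by decide +kernel)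
theorem c_7A : fx (w [.a, .b, .c, .d, .c, .d]) = 15 := fx_word _ _ (by decide +kernel)
theorem c_14 : fx (w [.f, .a, .b, .c, .d, .c, .d, .a, .b, .c, .d, .c, .d]) = 3 := fx_word _ _ (by decide +kernel)
theorem c_28 : fx (w [.a, .d, .g, .d, .g, .a, .b, .c, .d, .c, .d]) = 1 := fx_word _ _ (by decide +kernel)
theorem c_19 : fx (w [.f, .b, .e, .a, .c, .d]) = 1 := fx_word _ _ (by decide +kernel)
theorem c_8B : fx (w [.d, .g]) = 0 := fx_word _ _ (by decide +kernel)
theorem c_8A : fx (w [.d, .g, .c, .d, .c, .d]) = 4 := fx_word _ _ (by decide +kernel)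
theorem c_16C : fx (w [.d, .b, .a, .c, .b, .d, .g, .c, .g, .b, .a, .d, .c, .b]) = 0 :=
  fx_word _ _ (by decide +kernel)
theorem c_16A : fx (w [.c, .d, .b, .a, .c, .b, .d, .g, .c, .g, .b, .a, .d, .c, .b]) = 2 :=
  fx_word _ _ (by decide +kernel)
theorem c_7B : fx (w [.b, .a, .e, .d, .c, .d, .c, .e, .d, .c, .f, .e, .b, .d, .c, .b, .d, .c, .d, .c, .e, .d, .c, .b,
    .d, .c]) = 1 := fx_word _ _ (by decide +kernel)

end Cfsg.Agent.TAB.ON

private theorem dce_f0171065f385 : _root_.True := by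
  try have : _root_.True := by simp only [_root_.Cfsg.Agent.TAB.ON.fx.eq_1]
  exact _root_.True.intro
end

-- part: TAB/ON/Box
section
prune_inst 0x4400000000000000000022001c4282000000000b00000000000004800c00800006208000000080c000040030000811100100420000000a00000001180080000100021000a400100000000003100000000000000000000000000000000000000000000
set_option linter.all false
open scoped Cfsg.Agent.FastGrp

/-!
# The O'Nan group : the rational classes (helper45, TAB)
-/

set_option autoImplicit false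
set_option maxRecDepth 100000

namespace Cfsg.Agent.TAB.ON

open Cfsg Subgroup Cfsg.Agent.TAB.Eng
open Cfsg.Spor (ON)
open Cfsg.Spor.ON (Gen)
open Cfsg.Agent.SporadicB.ON45Word (on)
open Cfsg.Agent.KFacts.ON.Words (hs vv v wf)
open Cfsg.Agent.KFacts.ON.Struct
open Cfsg.Agent.KFacts.ON.Cent (finite_ON card_K0 card_cent)
open Cfsg.Agent.KFacts.MulSpor.ON (w w_append w_cons)
open Cfsg.Agent.UGT.C.BalONInv (E E_eq)
open Cfsg.Agent.H474.ONC
open Cfsg.Agent.H210.On7 (x1 x1_pow x1_ne x1_mem vx1 exists_three card_cent_three card_centJ card_centC K0_eq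
  thirtyone card_cent_nineteen range_nineteen)
open Cfsg.Agent.H210.ON3 (card_x7 card_B order_B w_B w_pw)
open Cfsg.Agent.CpAutON.Codes (v_four)
open Cfsg.Agent.ONType.TupK (K0)

section generic

variable {G : Type*} [Group G] [Finite G]

theorem pow_range {x g : G} {k : ℕ} (h : g * x * g⁻¹ = x ^ k) :
    k ^ Nat.card ((zpowers x).normalizerMonoidHom).range ≡ 1 [MOD orderOf x] := by
  have hN := mem_normalizer_of_conj (h ▸ npow_mem_zpowers x k : g * x * g⁻¹ ∈ zpowers x)
  have h1 : ((zpowers x).normalizerMonoidHom ⟨g, hN⟩) ^ Nat.card ((zpowers x).normalizerMonoidHom).range = 1 :=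
    congrArg Subtype.val (pow_card_eq_one' (x := (⟨_, ⟨g, hN⟩, rfl⟩ : ((zpowers x).normalizerMonoidHom).range)))
  generalize Nat.card ((zpowers x).normalizerMonoidHom).range = m at h1
  rw [← map_pow] at h1
  have h2 : g ^ m * x * (g ^ m)⁻¹ = x :=
    congrArg (fun c : MulAut (zpowers x) => ((c ⟨x, mem_zpowers x⟩ : zpowers x) : G)) h1
  have h3 : ∀ j : ℕ, g ^ j * x * (g ^ j)⁻¹ = x ^ k ^ j := fun j => by
    induction j with
    | zero => simp
    | succ j ih =>
      have h4 : g ^ (j + 1) * x * (g ^ (j + 1))⁻¹ = g * (g ^ j * x * (g ^ j)⁻¹) * g⁻¹ := by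
        rw [pow_succ']
        group
      rw [h4, ih, ← conj_pow, h, ← pow_mul, pow_succ']
  rw [← pow_eq_pow_iff_modEq, ← h3, h2, pow_one]

theorem loc_card {p : ℕ} {x u z : G} (h : Loc p x u) (h1 : x ∈ zpowers z) (h2 : u ^ 2 ∈ zpowers z) :
    Nat.card (centralizer ({z} : Set G)) ≤ p * 4 := by
  have key : ∀ (g : centralizer ({z} : Set G)), ∀ y ∈ zpowers z, g * y = y * g := by
    rintro g _ ⟨i, rfl⟩
    exact ((show Commute (g : G) z from mem_cent.1 g.2).zpow_right i).eq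
  choose i j hij using fun g : centralizer ({z} : Set G) => h.cent g (key g _ h1) (key g _ h2)
  rw [← h.ox, ← h.ov, ← Nat.card_zpowers, ← Nat.card_zpowers, ← Nat.card_prod]
  refine Nat.card_le_card_of_injective (fun g => (⟨_, npow_mem_zpowers x (i g)⟩, ⟨_, npow_mem_zpowers u (j g)⟩))
    fun a b hab => Subtype.ext ?_
  have h3 : x ^ i a = x ^ i b := congrArg (fun t : zpowers x × zpowers u => (t.1 : G)) hab
  have h4 : u ^ j a = u ^ j b := congrArg (fun t : zpowers x × zpowers u => (t.2 : G)) hab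
  rw [hij a, hij b, h3, h4]

theorem card_le_sub {u x z : G} (hx : x ∈ centralizer ({u} : Set G)) (h1 : x ∈ zpowers z) (h2 : u ∈ zpowers z) :
    Nat.card (centralizer ({z} : Set G)) ≤
      Nat.card (centralizer ({⟨x, hx⟩} : Set (centralizer ({u} : Set G)))) := by
  have key : ∀ (g : centralizer ({z} : Set G)), ∀ y ∈ zpowers z, g * y = y * g := by
    rintro g _ ⟨i, rfl⟩
    exact ((show Commute (g : G) z from mem_cent.1 g.2).zpow_right i).eq
  refine Nat.card_le_card_of_injective (fun g => ⟨⟨g, mem_cent.2 (key g _ h2)⟩,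
    mem_cent.2 (Subtype.ext (key g _ h1))⟩) fun a b hab => Subtype.ext ?_
  exact congrArg (fun t : centralizer ({⟨x, hx⟩} : Set (centralizer ({u} : Set G))) =>
    ((t : centralizer ({u} : Set G)) : G)) hab

theorem ord_pow {g : G} {n : ℕ} (h : orderOf g = n) (k : ℕ) : orderOf (g ^ k) = n / Nat.gcd n k := by
  rw [orderOf_pow, h]

omit [Finite G] in
theorem conj_pows {g x : G} {k : ℕ} (h : g * x * g⁻¹ = x ^ k) (j : ℕ) : g * x ^ j * g⁻¹ = (x ^ j) ^ k := by
  rw [← conj_pow, h, ← pow_mul, ← pow_mul, mul_comm]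

end generic

theorem ty_of {i o : ℕ} (l : List (ℕ × ℕ)) (h : sg dON valON i = (o, l.map fun p => (p.1, (p.2 : ℤ)))) {g : ON}
    (ho : orderOf g = o) (hl : l.Forall fun p => fx (g ^ p.1) = p.2) : Ty key dON valON i g := by
  refine (ty_iff h g).2 ⟨ho, fun p hp => ?_⟩
  obtain ⟨q, hq, rfl⟩ := List.mem_map.1 hp
  exact (key_iff _ _).2 (List.forall_iff_forall_mem.1 hl q hq)

theorem fx_two {g : ON} (h : orderOf g = 2) : fx g = 360 := by
  rw [← fx_conj (KFacts.ON.OneClass.one_class (w := g) (by rw [← pow_two, ← h, pow_orderOf_eq_one])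
    (by rintro rfl; rw [orderOf_one] at h; norm_num at h)), ← wf, c_f]

theorem ox1 : orderOf x1 = 3 := orderOf_eq_prime x1_pow x1_ne

theorem fx_three {g : ON} (h : orderOf g = 3) : fx g = 45 := by
  obtain ⟨z, -, hz, -⟩ := exists_three
  rw [← fx_conj (hz g h), fx_conj (hz x1 ox1)]
  exact c_ab

theorem fx_five {g : ON} (h : 5 ∣ orderOf g) : fx g = 0 := fx_zero (by norm_num) h

theorem fx_v {k : ℕ} (hk : Nat.Coprime k 4) : fx (v ^ k) = 120 := (fx_pow (order_v ▸ hk)).trans c_v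

theorem vpow {y : ON} (hy : y ∈ J) (k : ℕ) : (v * y) ^ k = v ^ (k % 4) * y ^ (k % orderOf y) := by
  rw [(show Commute v y from (mem_J.1 hy).symm).mul_pow, pow_mod_orderOf, ← order_v, pow_mod_orderOf]

theorem ord_v {y : ON} {p : ℕ} (hp : Nat.Coprime 4 p) (hy : y ∈ J) (ho : orderOf y = p) : orderOf (v * y) = 4 * p := by
  rw [(show Commute v y from (mem_J.1 hy).symm).orderOf_mul_eq_mul_orderOf_of_coprime
    (by rw [order_v, ho]; exact hp), order_v, ho]

theorem x1J : x1 ∈ J := mem_J.2 vx1.symm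
theorem x5J : x5 ∈ J := mem_J.2 loc5.comm.symm
theorem x7J : x7 ∈ J := mem_J.2 loc7.comm.symm

theorem p12 (k : ℕ) : (v * x1) ^ k = v ^ (k % 4) * x1 ^ (k % 3) := by rw [vpow x1J, ox1]
theorem p20 (k : ℕ) : (v * x5) ^ k = v ^ (k % 4) * x5 ^ (k % 5) := by rw [vpow x5J, order_x5]
theorem p28 (k : ℕ) : (v * x7) ^ k = v ^ (k % 4) * x7 ^ (k % 7) := by rw [vpow x7J, order_x7]

theorem ty12 : Ty key dON valON 13 (v * x1) := by
  have := finite_ON
  have ho : orderOf (v * x1) = 12 := ord_v (by norm_num) x1J ox1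
  refine ty_of [(1, 3), (2, 9), (3, 120), (4, 45), (6, 360)] (by decide +kernel) ho
    ⟨?_, ?_, ?_, fx_three (ord_pow ho 4), fx_two (ord_pow ho 6)⟩ <;> dsimp only
  · have e : w [.a, .d, .g, .d, .g, .a, .b] = v * x1 := w_append [.a, .d, .g, .d, .g] [.a, .b]
    rw [pow_one, ← e, c_12]
  · have e : w [.a, .b, .a, .b] = x1 * x1 := w_append [.a, .b] [.a, .b]
    rw [p12, show 2 % 4 = 2 from rfl, v_sq, pow_two, ← e, ← w_cons, c_6]
  · rw [p12, pow_zero, mul_one]
    exact fx_v (by norm_num)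

theorem ty20 : Ty key dON valON 19 (v * x5) := by
  have := finite_ON
  have ho : orderOf (v * x5) = 20 := ord_v (by norm_num) x5J order_x5
  refine ty_of [(1, 0), (2, 0), (4, 0), (5, 120), (10, 360)] (by decide +kernel) ho
    ⟨fx_five (by rw [ord_pow ho]; norm_num), fx_five (by rw [ord_pow ho]; norm_num),
      fx_five (by rw [ord_pow ho]; norm_num), ?_, fx_two (ord_pow ho 10)⟩
  dsimp only
  rw [p20, pow_zero, mul_one]
  exact fx_v (by norm_num)

theorem ty28 : Ty key dON valON 20 (v * x7) := by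
  have := finite_ON
  have ho : orderOf (v * x7) = 28 := ord_v (by norm_num) x7J order_x7
  refine ty_of [(1, 1), (2, 3), (4, 15), (7, 120), (14, 360)] (by decide +kernel) ho
    ⟨?_, ?_, ?_, ?_, fx_two (ord_pow ho 14)⟩ <;> dsimp only
  · have e : w [.a, .d, .g, .d, .g, .a, .b, .c, .d, .c, .d] = v * x7 :=
      w_append [.a, .d, .g, .d, .g] [.a, .b, .c, .d, .c, .d]
    rw [pow_one, ← e, c_28]
  · have e : w [.a, .b, .c, .d, .c, .d, .a, .b, .c, .d, .c, .d] = x7 * x7 :=
      w_append [.a, .b, .c, .d, .c, .d] [.a, .b, .c, .d, .c, .d]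
    rw [p28, show 2 % 4 = 2 from rfl, v_sq, pow_two, ← e, ← w_cons, c_14]
  · rw [p28, pow_zero, one_mul]
    exact (fx_pow (by rw [order_x7]; norm_num)).trans c_7A
  · rw [p28, pow_zero, mul_one]
    exact fx_v (by norm_num)

theorem fx_E (c : ℕ) {l : List Gen} {n : ℕ} (h' : fx (w l) = n) (h : Schreier.ONRel.cat (UGT.C.BalONInv.bl c) = l) :
    fx (E c) = n := by
  rw [← E_eq, h]
  exact h'

theorem ty16A : Ty key dON valON 16 (E 448) := by
  have := finite_ON
  have ho := order_16 four448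
  refine ty_of [(1, 2), (2, 4), (4, 8), (8, 360)] (by decide +kernel) ho ⟨?_, ?_, ?_, fx_two (ord_pow ho 8)⟩ <;> dsimp only
  · rw [pow_one, fx_E 448 c_16A (by decide +kernel)]
  · rw [sq448, ← fx_conj conj62, fx_E 48 c_8A (by decide +kernel)]
  · rw [four448, fx_E 4 c_4B (by decide +kernel)]

theorem ty16C : Ty key dON valON 17 (E 384) := by
  have := finite_ON
  have ho := order_16 four384
  refine ty_of [(1, 0), (2, 0), (4, 8), (8, 360)] (by decide +kernel) ho ⟨?_, ?_, ?_, fx_two (ord_pow ho 8)⟩ <;> dsimp only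
  · rw [pow_one, fx_E 384 c_16C (by decide +kernel)]
  · rw [sq384, ← fx_conj conj29, fx_E 16 c_8B (by decide +kernel)]
  · rw [four384, fx_E 4 c_4B (by decide +kernel)]

theorem not_conj_20 : ¬ IsConj (v * x5) ((v * x5) ^ 17) := by
  intro hc
  obtain ⟨g, hg⟩ := isConj_iff.1 hc
  have h1 := conj_pows hg 5
  have h2 := conj_pows hg 16
  rw [← pow_mul, p20, p20] at h1 h2
  norm_num only [_root_.pow_one, _root_.pow_zero, _root_.mul_one, _root_.one_mul] at h1 h2
  exact no_square order_x5 x5J (mem_J.2 (mul_inv_eq_iff_eq_mul.1 h1)) h2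

theorem cent28 : Nat.card (centralizer ({v * x7} : Set ON)) ≤ 7 * 4 := by
  have := finite_ON
  exact loc_card loc7 ⟨(8 : ℕ), by simp only [zpow_natCast, p28]; norm_num⟩
    ⟨(14 : ℕ), by simp only [zpow_natCast, p28]; norm_num⟩

theorem not_conj_28 : ¬ IsConj (v * x7) ((v * x7) ^ 13) := by
  have := finite_ON
  have : Fact (Nat.Prime 7) := ⟨by norm_num⟩
  intro hc
  obtain ⟨g, hg⟩ := isConj_iff.1 hc
  have h1 := conj_pows hg 21
  have h2 := conj_pows hg 8
  rw [← pow_mul, p28, p28] at h1 h2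
  norm_num only [_root_.pow_one, _root_.pow_zero, _root_.mul_one, _root_.one_mul] at h1 h2
  have hX : orderOf (⟨x7, x7J⟩ : J) = 7 := by rw [orderOf_mk, order_x7]
  obtain ⟨n, hn, hN⟩ := CpAutON.Gen.card_eq (G := J) (p := 7) (by rw [card_J]; norm_num) hX
  have h3 := pow_range (g := (⟨g, mem_J.2 (mul_inv_eq_iff_eq_mul.1 h1)⟩ : J)) (x := ⟨x7, x7J⟩) (k := 6)
    (Subtype.ext h2)
  have h4 := Nat.le_of_dvd (by norm_num) (range_dvd hX)
  have h5 : 28 ∣ Nat.card (centralizer ({⟨x7, x7J⟩} : Set J)) := by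
    have h6 := dvd_cent (x := (⟨x7, x7J⟩ : J)) (y := ⟨v * x7, J.mul_mem vJ x7J⟩)
      (Subtype.ext (by
        show v * x7 * x7 = x7 * (v * x7)
        rw [← mul_assoc, mem_J.1 x7J]))
    rwa [orderOf_mk, ord_v (by norm_num) x7J order_x7] at h6
  have h6 : Nat.card (centralizer ({⟨x7, x7J⟩} : Set J)) ≤ 28 := by
    let F : centralizer ({⟨x7, x7J⟩} : Set J) → centralizer ({v * x7} : Set ON) := fun a => ⟨((a : J) : ON),
      mem_cent.2 ((show Commute ((a : J) : ON) v from mem_J.1 (a : J).2).mul_right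
        (congrArg Subtype.val (mem_cent.1 a.2))).eq⟩
    exact le_trans (Nat.card_le_card_of_injective F fun a b hab =>
      Subtype.ext (Subtype.ext (congrArg Subtype.val hab :))) cent28
  rw [hX] at h3
  rw [card_J, le_antisymm h6 (Nat.le_of_dvd Nat.card_pos h5)] at hN
  generalize Nat.card ((zpowers (⟨x7, x7J⟩ : J)).normalizerMonoidHom).range = m at h3 h4 hN
  interval_cases m <;> first | (clear * - hN hn; omega) | exact absurd h3 (by decide +kernel)

theorem not_conj_prime {x : ON} {p m k : ℕ} (hx : orderOf x = p)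
    (hm : Nat.card ((zpowers x).normalizerMonoidHom).range = m) (h : ¬ k ^ m ≡ 1 [MOD p]) : ¬ IsConj x (x ^ k) := by
  have := finite_ON
  intro hc
  obtain ⟨g, hg⟩ := isConj_iff.1 hc
  have h1 := pow_range hg
  rw [hm, hx] at h1
  exact h h1

seal _root_.npowRec in
theorem o19 : orderOf (w [.f, .b, .e, .a, .c, .d]) = 19 := by
  have : Fact (Nat.Prime 19) := ⟨by norm_num⟩
  refine orderOf_eq_prime ?_ fun h => ?_
  · rw [← w_pw]
    exact KFacts.MulSpor.ON.rel hs _ (by decide +kernel)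
  · have h1 := c_19
    rw [h, ← show fx (on .f ^ 2) = fx 1 by rw [pow_two, ff]] at h1
    have h2 : fx (on .f) ≤ fx (on .f ^ 2) := by
      have := H707.Odd.ON.finite_X
      exact Nat.card_le_card_of_injective (fun p => ⟨p.1, by
        rw [MulAction.mem_fixedBy, pow_two, mul_smul, p.2, p.2]⟩) fun a b hab =>
          Subtype.ext (congrArg Subtype.val hab :)
    rw [h1, ← wf, c_f] at h2
    omega

theorem ty_pw {i j k : ℕ} {g : ON} (hg : Ty key dON valON i g) (hi : i < 22) (h : dON.pwf i k = j) :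
    Ty key dON valON j (g ^ k) := by
  have := finite_ON
  exact h ▸ (hg.pow okPow hi k).2

theorem ex_prime (p : ℕ) [Fact p.Prime] (hp : p ∣ 460815505920) : ∃ y : ON, orderOf y = p :=
  haveI := finite_ON
  exists_prime_orderOf_dvd_card' p (by rw [card_ON]; exact hp)

theorem boxes : ∀ i < dON.n, BoxR key dON valON i (clsN i) := by
  have := finite_ON
  intro i hi
  change i < 22 at hi
  have hf : orderOf (on .f) = 2 := orderOf_eq_prime (by rw [pow_two, ff]) f_ne_one
  interval_cases i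
  · exact BoxR.one (x := 1) ⟨orderOf_one, fun _ h => nomatch h⟩ ((card_le_card_group _).trans card_ON.le)
      (by decide +kernel)
  · exact BoxR.one (ty_of [(1, 360)] (by decide +kernel) hf (fx_two (by rw [pow_one, hf]))) card_cent.le (by decide +kernel)
  · exact BoxR.one (ty_of [(1, 45)] (by decide +kernel) ox1 (fx_three (by rw [pow_one, ox1]))) (card_cent_three ox1).le
      (by decide +kernel)
  · refine BoxR.one (ty_of [(1, 120), (2, 360)] (by decide +kernel) order_v ⟨fx_v (by norm_num), ?_⟩) card_J.le (by decide +kernel)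
    exact fx_two (ord_pow order_v 2)
  · exact BoxR.one (four384 ▸ ty_pw ty16C (by norm_num) (by decide +kernel)) card_x4 (by decide +kernel)
  · exact BoxR.one (ty_of [(1, 0)] (by decide +kernel) order_x5 (fx_five (by rw [pow_one, order_x5]))) card_cent_x5.le
      (by decide +kernel)
  · have h1 : x1 ∈ centralizer ({on .f} : Set ON) := K0_eq ▸ x1_mem
    refine BoxR.one (ty_pw (k := 2) ty12 (by norm_num) (by decide +kernel)) ((card_le_sub h1 ⟨(2 : ℕ), ?_⟩ ⟨(3 : ℕ), ?_⟩).trans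
      (card_centC ⟨x1, h1⟩ (by rw [orderOf_mk, ox1]))) (by decide +kernel)
    · simp only [zpow_natCast]
      rw [← pow_mul, p12]
      norm_num
    · simp only [zpow_natCast]
      rw [← pow_mul, p12]
      norm_num [v_sq]
  · exact BoxR.one (ty_of [(1, 15)] (by decide +kernel) order_x7 (by rw [List.Forall, pow_one]; exact c_7A)) card_x7.le
      (by decide +kernel)
  · exact BoxR.one (ty_of [(1, 1)] (by decide +kernel) order_B (by rw [List.Forall, pow_one, ← w_B]; exact c_7B)) card_B.le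
      (by decide +kernel)
  · exact BoxR.one (sq448 ▸ ty_pw ty16A (by norm_num) (by decide +kernel)) ((card_of_pow (by norm_num) sq62).trans cnt62).le
      (by decide +kernel)
  · exact BoxR.one (sq384 ▸ ty_pw ty16C (by norm_num) (by decide +kernel)) ((card_of_pow (by norm_num) sq29).trans cnt29).le
      (by decide +kernel)
  · refine BoxR.one (ty_pw (k := 2) ty20 (by norm_num) (by decide +kernel)) (loc_card loc5 ⟨(8 : ℕ), ?_⟩ ⟨(5 : ℕ), ?_⟩)
      (by decide +kernel) <;> simp only [zpow_natCast] <;> rw [← pow_mul, p20] <;> norm_num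
  · have : Fact (Nat.Prime 11) := ⟨by norm_num⟩
    obtain ⟨y, hy⟩ := ex_prime 11 (by norm_num)
    exact BoxR.one (ty_of [(1, 0)] (by decide +kernel) hy (fx_zero (p := 11) (by norm_num) (by rw [pow_one, hy])))
      (card_cent_eleven hy).le (by decide +kernel)
  · refine BoxR.one ty12 ((card_le_sub x1J ⟨(4 : ℕ), ?_⟩ ⟨(9 : ℕ), ?_⟩).trans (card_centJ ox1 x1J))
      (by decide +kernel) <;> simp only [zpow_natCast, p12] <;> norm_num
  · refine BoxR.one (ty_pw (k := 2) ty28 (by norm_num) (by decide +kernel)) (loc_card loc7 ⟨(4 : ℕ), ?_⟩ ⟨(7 : ℕ), ?_⟩)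
      (by decide +kernel) <;> simp only [zpow_natCast] <;> rw [← pow_mul, p28] <;> norm_num
  · have h := H210.On7.rel
    have h1 := h.card_x (card_cent_five h.oy) H210.On7.not_two
    exact BoxR.two (ty_of [(1, 0), (3, 0), (5, 45)] (by decide +kernel) h.ox ⟨fx_five (by rw [ord_pow h.ox]; norm_num),
      fx_five (by rw [ord_pow h.ox]; norm_num), fx_three (ord_pow h.ox 5)⟩) h1.le (by decide +kernel)
      (h.not_conj (card_cent_five h.oy) h1) (by decide +kernel)
  · exact BoxR.two ty16A ((card_of_pow (by norm_num) four448).trans cnt448).le (by decide +kernel)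
      (not_conj_16 ty16A.1) (by decide +kernel)
  · exact BoxR.two ty16C ((card_of_pow (by norm_num) four384).trans cnt384).le (by decide +kernel)
      (not_conj_16 ty16C.1) (by decide +kernel)
  · have h2 := ord_pow o19 2
    refine ⟨_, 19, [1, 2, 4], ty_of [(1, 1)] (by decide +kernel) o19 (by rw [List.Forall, pow_one]; exact c_19),
      (card_cent_nineteen o19).le, rfl, by decide +kernel, ?_, by decide +kernel⟩
    simp only [List.pairwise_cons, List.forall_mem_cons, pow_one, List.not_mem_nil, IsEmpty.forall_iff, implies_true,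
      List.Pairwise.nil, and_true]
    refine ⟨⟨not_conj_prime o19 (range_nineteen o19) (by decide +kernel), not_conj_prime o19 (range_nineteen o19)
      (by decide +kernel)⟩, ?_⟩
    rw [show 4 = 2 * 2 from rfl, pow_mul]
    exact not_conj_prime h2 (range_nineteen h2) (by decide +kernel)
  · refine BoxR.two ty20 (loc_card loc5 ⟨(16 : ℕ), ?_⟩ ⟨(10 : ℕ), ?_⟩) (by decide +kernel) not_conj_20
      (by decide +kernel) <;> simp only [zpow_natCast, p20] <;> norm_num
  · exact BoxR.two ty28 cent28 (by decide +kernel) not_conj_28 (by decide +kernel)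
  · have : Fact (Nat.Prime 31) := ⟨by norm_num⟩
    obtain ⟨y, hy⟩ := ex_prime 31 (by norm_num)
    exact BoxR.two (k := 3) (ty_of [(1, 0)] (by decide +kernel) hy (fx_zero (p := 31) (by norm_num) (by rw [pow_one, hy])))
      (thirtyone hy).1.le (by decide +kernel) (not_conj_prime hy (thirtyone hy).2 (by decide +kernel)) (by decide +kernel)

/-- **the types of the O'Nan group** -/
theorem exists_types : ∃ T : TD ON dON, T.Mass ∧ Rat T ∧ Virt T (nth fixL) ∧ 30 ≤ Nat.card (ConjClasses ON) := by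
  have := finite_ON
  obtain ⟨T, hm, hr, hT, hc⟩ := exists_td_rat okPow okSep okSum card_ON clsN boxes
  refine ⟨T, hm, hr, ?_, hc⟩
  have h1 : (fun g => (nth fixL (T.ty g) : ℂ)) = fun g => (fx g : ℂ) := by
    funext g
    have h2 := (hT g _ (T.lt g)).1 rfl
    by_cases h3 : T.ty g = 0
    · rw [h3] at h2 ⊢
      rw [orderOf_eq_one_iff.1 h2.1, fx, MulAction.fixedBy_one_eq_univ, Nat.card_univ, Nat.card_eq_fintype_card,
        H707.Odd.ON.card_X]
      rfl
    · have h4 : ∀ i < 22, i ≠ 0 → (1, i) ∈ dON.pw i := by decide +kernel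
      have h5 := key_val (h2.2 _ (h4 _ (T.lt g) h3))
      rw [pow_one] at h5
      rw [nth_eq]
      exact_mod_cast h5.symm
  rw [Virt, h1]
  exact Characters.Brauer.isGeneralizedCharacter_of_isCharacter fx_char

end Cfsg.Agent.TAB.ON
end

-- part: TAB/ON/Tab
section
prune_inst 0x4400040000000818000022001cc2b2000002004b00002040000005c00c41a0410621b070021081d41864787ac00811100109423800002a00ba00411a0080040528e2942cb40011000040c803100000000000000000000000000000000000000000000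
set_option linter.all false

/-- decoders of the packed data (elaboration time only) -/
private noncomputable def pk61d (b S i : Nat) : Nat := Nat.mod (Nat.shiftRight S (Nat.mul b i)) (Nat.shiftLeft (nat_lit 1) b)
private noncomputable def pk61c {α : Type} (t : Nat) (a : α) (f : Nat → α) : α := Nat.rec a (fun k _ => f k) t
private noncomputable def pk61f {α : Type} (t : Nat) (f : Nat → α) : α := Nat.rec (f Nat.zero) (fun k _ => f (Nat.succ k)) t
private noncomputable def pk61z (t : Nat) : Int := pk61f t fun t =>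
  pk61c (Nat.mod t (nat_lit 2)) (Int.ofNat (Nat.div t (nat_lit 2))) fun _ => Int.negSucc (Nat.div t (nat_lit 2))
private noncomputable def pk61l {α : Type} (f : Nat → α) (s e : Nat) (tl : List α) : List α :=
  pk61f e fun e => Nat.rec tl (fun k ih => List.cons (pk61f (Nat.sub e (Nat.succ k)) f) ih) (Nat.sub e s)

/-!
# The O'Nan group : the table (helper45, TAB)

The rows come from the permutation character of degree 122760 by products, Adams operations and their adjoints,
`δ`, and the permutation characters on cyclic subgroups (`notes/TAB/ON`).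
-/

set_option autoImplicit false
set_option maxRecDepth 100000

namespace Cfsg.Agent.TAB.ON

open Cfsg Cfsg.Agent.TAB.Eng Cfsg.Agent.TAB.Use Cfsg.Agent.TAB.Sm1
open Cfsg.Spor (ON)

/-- the degrees -/
def degL : List ℕ := [1, 10944, 13376, 13376, 25916, 25916, 26752, 32395, 32395, 37696, 52668, 58311, 58311, 58311, 58653, 64790, 64790,
    85064, 116963, 143374, 169290, 169290, 175616, 175616, 175770, 207360, 207360, 207360, 234080, 234080]

/-- the table -/
def tabON : Rows where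
  deg := degL
  rel := [
([(0, 1)], [1, 1, 1, 1, 1, 1, 1, 1, 1, 1, 1, 1, 1, 1, 1, 1, 1, 1, 1, 1, 1, 1]),
([(1, 1)], [10944, 64, 9, 64, 0, -1, 1, 17, 3, 0, 0, -1, -1, 1, 1, -1, 0, 0, 0, -1, 1, 1]),
([(2, 1), (3, 1)], [26752, -128, 22, 128, 0, 2, -2, -2, -2, 0, 0, 2, 0, 2, -2, 2, 0, 0, 0, -2, 2, -1]),
([(4, 1), (5, 1)], [51832, -72, -8, 40, 8, 2, 0, -10, 4, 0, 0, -2, 0, 4, -2, 2, 0, 0, 0, 0, -2, 0]),
([(6, 1)], [26752, 128, 22, 0, 0, 2, 2, -2, -2, 0, 0, -2, 0, 0, 2, 2, 0, 0, 0, 0, 0, -1]),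
([(7, 1)], [32395, 75, -5, 35, 3, 0, 3, 6, -1, 3, -1, 0, 0, -1, -2, 0, 1, -1, 0, 0, 0, 0]),
([(8, 1)], [32395, 75, -5, 35, 3, 0, 3, 6, -1, -1, 3, 0, 0, -1, -2, 0, -1, 1, 0, 0, 0, 0]),
([(9, 1)], [37696, -64, 31, -64, 0, 1, -1, 15, 1, 0, 0, 1, -1, -1, -1, 1, 0, 0, 0, 1, -1, 0]),
([(10, 1)], [52668, 92, 18, 20, 4, -2, 2, -7, 0, 0, 0, 2, 0, 2, 1, -2, 0, 0, 0, 0, -1, -1]),
([(11, 1)], [58311, 71, -9, 71, 7, 1, -1, 1, 1, -1, -1, 1, 0, -1, 1, 1, -1, -1, 0, 1, 1, 0]),
([(12, 1)], [58311, 71, -9, -1, -1, 1, -1, 1, 1, 3, -1, 1, 0, -1, 1, 1, -1, 1, 0, -1, -1, 0]),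
([(13, 1)], [58311, 71, -9, -1, -1, 1, -1, 1, 1, -1, 3, 1, 0, -1, 1, 1, 1, -1, 0, -1, -1, 0]),
([(14, 1)], [58653, -35, 9, -35, -3, 8, 1, 0, 0, 1, 1, 0, 1, 1, 0, -1, -1, -1, 0, 0, 0, 1]),
([(15, 1), (16, 1)], [129580, 140, -20, -140, 4, 0, -4, 24, -4, 0, 0, 0, 0, 4, 0, 0, 0, 0, 0, 0, 0, 0]),
([(17, 1)], [85064, -56, 14, -56, 8, -1, -2, 0, 0, 0, 0, -1, 1, -2, 0, -1, 0, 0, 1, -1, 0, 0]),
([(18, 1)], [116963, 35, -1, 35, 3, 8, -1, 0, 0, -1, -1, 0, 0, -1, 0, -1, 1, 1, -1, 0, 0, 0]),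
([(19, 1)], [143374, 14, 4, 126, -2, -1, -4, 0, 0, 2, 2, -1, 0, 0, 0, -1, 0, 0, 0, 1, 0, -1]),
([(20, 1), (21, 1)], [338580, 180, 0, -180, -4, 0, 0, -10, 4, 0, 0, 0, 0, 0, -2, 0, 0, 0, 0, 0, 2, -2]),
([(22, 1), (23, 1)], [351232, 0, 16, 0, 0, -8, 0, 0, 0, 0, 0, 0, 2, 0, 0, 1, 0, 0, -2, 0, 0, 2]),
([(24, 1)], [175770, 90, 0, 90, -6, 0, 0, 7, 0, -2, -2, 0, 1, 0, -1, 0, 0, 0, 1, 0, -1, 0]),
([(25, 1), (26, 1), (27, 1)], [622080, 0, 0, 0, 0, 0, 0, -24, -3, 0, 0, 0, -3, 0, 0, 0, 0, 0, 1, 0, 0, 3]),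
([(28, 1), (29, 1)], [468160, -320, -20, 0, 0, 0, 4, 14, 0, 0, 0, 0, 0, 0, 2, 0, 0, 0, 0, 0, 0, -2])]

/-- the seeds -/
def seeds : List (List ℤ) := [List.replicate 22 1, fixL]

def q2 : List ℤ × Sm1.Op := ([230407752960, 80640, 0, 0, 0, 0, 0, 0, 0, 0, 0, 0, 0, 0, 0, 0, 0, 0, 0, 0, 0, 0], .cyc
    1)
def q3 : List ℤ × Sm1.Op := ([153605168640, 0, 2160, 0, 0, 0, 0, 0, 0, 0, 0, 0, 0, 0, 0, 0, 0, 0, 0, 0, 0, 0], .cyc
    2)
def q4 : List ℤ × Sm1.Op := ([115203876480, 40320, 0, 40320, 0, 0, 0, 0, 0, 0, 0, 0, 0, 0, 0, 0, 0, 0, 0, 0, 0, 0],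
    .cyc 3)
def q5 : List ℤ × Sm1.Op := ([115203876480, 40320, 0, 0, 128, 0, 0, 0, 0, 0, 0, 0, 0, 0, 0, 0, 0, 0, 0, 0, 0, 0],
    .cyc 4)
def q6 : List ℤ × Sm1.Op := ([92163101184, 0, 0, 0, 0, 144, 0, 0, 0, 0, 0, 0, 0, 0, 0, 0, 0, 0, 0, 0, 0, 0], .cyc 5)
def q7 : List ℤ × Sm1.Op := ([76802584320, 26880, 1080, 0, 0, 0, 24, 0, 0, 0, 0, 0, 0, 0, 0, 0, 0, 0, 0, 0, 0, 0],
    .cyc 6)
def q8 : List ℤ × Sm1.Op := ([65830786560, 0, 0, 0, 0, 0, 0, 1176, 0, 0, 0, 0, 0, 0, 0, 0, 0, 0, 0, 0, 0, 0], .cyc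
    7)
def q9 : List ℤ × Sm1.Op := ([65830786560, 0, 0, 0, 0, 0, 0, 0, 42, 0, 0, 0, 0, 0, 0, 0, 0, 0, 0, 0, 0, 0], .cyc 8)
def q10 : List ℤ × Sm1.Op := ([57601938240, 20160, 0, 0, 64, 0, 0, 0, 0, 16, 0, 0, 0, 0, 0, 0, 0, 0, 0, 0, 0, 0],
    .cyc 9)
def q11 : List ℤ × Sm1.Op := ([57601938240, 20160, 0, 0, 64, 0, 0, 0, 0, 0, 16, 0, 0, 0, 0, 0, 0, 0, 0, 0, 0, 0],
    .cyc 10)
def q12 : List ℤ × Sm1.Op := ([46081550592, 16128, 0, 0, 0, 72, 0, 0, 0, 0, 0, 8, 0, 0, 0, 0, 0, 0, 0, 0, 0, 0],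
    .cyc 11)
def q13 : List ℤ × Sm1.Op := ([41892318720, 0, 0, 0, 0, 0, 0, 0, 0, 0, 0, 0, 10, 0, 0, 0, 0, 0, 0, 0, 0, 0], .cyc
    12)
def q14 : List ℤ × Sm1.Op := ([38401292160, 13440, 540, 13440, 0, 0, 12, 0, 0, 0, 0, 0, 0, 12, 0, 0, 0, 0, 0, 0, 0,
    0], .cyc 13)
def q15 : List ℤ × Sm1.Op := ([32915393280, 11520, 0, 0, 0, 0, 0, 588, 0, 0, 0, 0, 0, 0, 12, 0, 0, 0, 0, 0, 0, 0],
    .cyc 14)
def q16 : List ℤ × Sm1.Op := ([30721033728, 0, 432, 0, 0, 48, 0, 0, 0, 0, 0, 0, 0, 0, 0, 12, 0, 0, 0, 0, 0, 0], .cyc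
    15)
def q17 : List ℤ × Sm1.Op := ([28800969120, 10080, 0, 0, 32, 0, 0, 0, 0, 8, 0, 0, 0, 0, 0, 0, 4, 0, 0, 0, 0, 0],
    .cyc 16)
def q18 : List ℤ × Sm1.Op := ([28800969120, 10080, 0, 0, 32, 0, 0, 0, 0, 0, 8, 0, 0, 0, 0, 0, 0, 4, 0, 0, 0, 0],
    .cyc 17)
def q19 : List ℤ × Sm1.Op := ([24253447680, 0, 0, 0, 0, 0, 0, 0, 0, 0, 0, 0, 0, 0, 0, 0, 0, 0, 6, 0, 0, 0], .cyc 18)
def q20 : List ℤ × Sm1.Op := ([23040775296, 8064, 0, 8064, 0, 36, 0, 0, 0, 0, 0, 4, 0, 0, 0, 0, 0, 0, 0, 4, 0, 0],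
    .cyc 19)
def q21 : List ℤ × Sm1.Op := ([16457696640, 5760, 0, 5760, 0, 0, 0, 294, 0, 0, 0, 0, 0, 0, 6, 0, 0, 0, 0, 0, 6, 0],
    .cyc 20)
def q22 : List ℤ × Sm1.Op := ([14865016320, 0, 0, 0, 0, 0, 0, 0, 0, 0, 0, 0, 0, 0, 0, 0, 0, 0, 0, 0, 0, 15], .cyc
    21)
def q23 : List ℤ × Sm1.Op := ([122759, 359, 44, 119, 7, -1, 8, 14, 0, 3, -1, -1, -1, 2, 2, -1, 1, -1, 0, -1, 0, -1],
    .lin [(-1, 0), (1, 1)])
def q24 : List ℤ × Sm1.Op := ([-1, -1, -1, -1, -1, -1, -1, -1, -1, -1, -1, -1, -1, -1, -1, -1, 7, -1, -1, -1, -1,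
    -1], .lin [(-1, 0), (-1, 10), (2, 17)])
def q25 : List ℤ × Sm1.Op := ([1, 1, 1, 1, 1, 1, 1, 1, 1, 9, -7, 1, 1, 1, 1, 1, -3, -3, 1, 1, 1, 1], .lin [(1, 0),
    (1, 10), (-1, 17), (-1, 18)])
def q26 : List ℤ × Sm1.Op := ([-1, -1, -1, -1, -1, -1, -1, -1, -1, 7, -9, -1, -1, -1, -1, -1, 3, 3, -1, -1, -1, -1],
    .lin [(-1, 0), (-1, 11), (1, 17), (1, 18)])
def q27 : List ℤ × Sm1.Op := ([-1, -1, -1, -1, -1, -1, -1, -1, -1, 15, 15, -1, -1, -1, -1, -1, -1, -1, -1, -1, -1,
    -1], .lin [(-1, 0), (-1, 5), (1, 10), (1, 11)])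
noncomputable def q28 : List ℤ × Sm1.Op :=
  (by
  refine (?fq9001 : ((_root_.Prod.mk (pk61l (fun i1 => (pk61z (pk61d (nat_lit 20) 
    (nat_lit 0x5000060000600005000010000100006000060001100005000060000e0000e000060000600011000060004e0034e000710034eaad4e) i1))) (nat_lit 0) (nat_lit 22) List.nil) (_root_.Cfsg.Agent.TAB.Sm1.Op.lin (pk61l (fun i1 => (_root_.Prod.mk (pk61z (pk61d (nat_lit 19) 
    (nat_lit 0x2f758d4f32c7e2353d4b1f991aeb0ed4a06160291188e610b1fc163f80f35829b8049081da98225e08164038c8038dc4907d8fce) i1)) (pk61d (nat_lit 5) 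
    (nat_lit 0x2d5a4e5183dcd5a928398a418820) i1))) (nat_lit 0) (nat_lit 22) List.nil))) : List ℤ × Sm1.Op)
    = ?xq9001 → (List ℤ × Sm1.Op)) ?hq9001; (case hq9001 => (set_option maxRecDepth 1000000 in conv => lhs; reduce)); intro _; exact ?xq9001 : List ℤ × Sm1.Op)
noncomputable def q29 : List ℤ × Sm1.Op :=
  (by
  refine (?fq9002 : ((_root_.Prod.mk (pk61l (fun i1 => (pk61z (pk61d (nat_lit 20) 
    (nat_lit 0x10000d000050000100002000020000a0000a00022000010000a0000d0000d0000a0000a0000d0000a00052002ad0006d00352aad52) i1))) (nat_lit 0) (nat_lit 22) List.nil) (_root_.Cfsg.Agent.TAB.Sm1.Op.lin (pk61l (fun i1 => (_root_.Prod.mk (pk61z (pk61d (nat_lit 19) 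
    (nat_lit 0x17bac6a7b963f51a9ea58fcc8d75876a5030b41487c4730800020b1f8163f00f35829b8049041da98225f08164038c8038dc4907d8fd2) i1)) i1)) (nat_lit 0) (nat_lit 23) List.nil))) : List ℤ × Sm1.Op)
    = ?xq9002 → (List ℤ × Sm1.Op)) ?hq9002; (case hq9002 => (set_option maxRecDepth 1000000 in conv => lhs; reduce)); intro _; exact ?xq9002 : List ℤ × Sm1.Op)
noncomputable def q30 : List ℤ × Sm1.Op :=
  (by
  refine (?fq9003 : ((_root_.Prod.mk (pk61l (fun i1 => (pk61z (pk61d (nat_lit 19) 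
    (nat_lit 0x10000600002000140000800060001c000240007000020002200018000480006000d200038000700016009ac00744014b44ee9) i1))) (nat_lit 0) (nat_lit 22) List.nil) (_root_.Cfsg.Agent.TAB.Sm1.Op.lin (pk61l (fun i1 => (_root_.Prod.mk (pk61z (pk61d (nat_lit 20) 
    (nat_lit 0x100eb240673c375240693c3752fdc314125041e40de4d18161000010f0de0f0dc05257070ec062d8141280ba0c15e3804cd60267b18b5ff0dd6) i1)) i1)) (nat_lit 0) (nat_lit 23) List.nil))) : List ℤ × Sm1.Op)
    = ?xq9003 → (List ℤ × Sm1.Op)) ?hq9003; (case hq9003 => (set_option maxRecDepth 1000000 in conv => lhs; reduce)); intro _; exact ?xq9003 : List ℤ × Sm1.Op)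
noncomputable def q31 : List ℤ × Sm1.Op :=
  (by
  refine (?fq9004 : ((_root_.Prod.mk (pk61l (fun i1 => (pk61z (pk61d (nat_lit 21) 
    (nat_lit 0x16000060000400001400000000040000b8000140000c000080000400001c000000001e000390000740002e00018001bc0000d40044feb6e7) i1))) (nat_lit 0) (nat_lit 22) List.nil) (_root_.Cfsg.Agent.TAB.Sm1.Op.lin (pk61l (fun i1 => (_root_.Prod.mk (pk61z (pk61d (nat_lit 21) 
    (nat_lit 0x2292826c862069809b21081a5c338620acdc011bbc1dea819ee0081a5840d2c0b14c0798f035338566e41908e179050295b80a5b835335034b7) i1)) (pk61d (nat_lit 5) 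
    (nat_lit 0x2d5a4e5183dcd5a928398a418820) i1))) (nat_lit 0) (nat_lit 22) List.nil))) : List ℤ × Sm1.Op)
    = ?xq9004 → (List ℤ × Sm1.Op)) ?hq9004; (case hq9004 => (set_option maxRecDepth 1000000 in conv => lhs; reduce)); intro _; exact ?xq9004 : List ℤ × Sm1.Op)
noncomputable def q32 : List ℤ × Sm1.Op :=
  (by
  refine (?fq9005 : ((_root_.Prod.mk (pk61l (fun i1 => (pk61z (pk61d (nat_lit 21) 
    (nat_lit 0xc0000c000028000000000a00006000028000600000000006000028000080000a0000b0002f80008c0000a0007d0029100026c015855ea7d) i1))) (nat_lit 0) (nat_lit 22) List.nil) (_root_.Cfsg.Agent.TAB.Sm1.Op.lin (pk61l (fun i1 => (_root_.Prod.mk (pk61z (pk61d (nat_lit 18) 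
    (nat_lit 0x10c4c967b3ee34967d3ee34c7eb14f6411360e824649d0fb903ee2055fc1d7a0673853da0c2485b70050400a0b19cf7ee32) i1)) (pk61d (nat_lit 5) 
    (nat_lit 0x2d5a4e5183dcd5a928398a418820) i1))) (nat_lit 0) (nat_lit 22) List.nil))) : List ℤ × Sm1.Op)
    = ?xq9005 → (List ℤ × Sm1.Op)) ?hq9005; (case hq9005 => (set_option maxRecDepth 1000000 in conv => lhs; reduce)); intro _; exact ?xq9005 : List ℤ × Sm1.Op)
noncomputable def q33 : List ℤ × Sm1.Op :=
  (by
  refine (?fq9006 : ((_root_.Prod.mk (pk61l (fun i1 => (pk61z (pk61d (nat_lit 17) 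
    (nat_lit 0x1200020000800080002000100130000800340009000080038001c00150049000b40042005100288018800a31fae) i1))) (nat_lit 0) (nat_lit 22) List.nil) (_root_.Cfsg.Agent.TAB.Sm1.Op.lin (pk61l (fun i1 => (_root_.Prod.mk (pk61z (pk61d (nat_lit 21) 
    (nat_lit 0x2bfb031560293b60c5580a4ed8418b20dbe90168f4260e820fc40a4ec8527640e18809aa3043af86df3c1fd921df9d0349c80d2d843ae949db1) i1)) (pk61d (nat_lit 5) 
    (nat_lit 0x2d5a4e5183dcd5a928398a418820) i1))) (nat_lit 0) (nat_lit 22) List.nil))) : List ℤ × Sm1.Op)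
    = ?xq9006 → (List ℤ × Sm1.Op)) ?hq9006; (case hq9006 => (set_option maxRecDepth 1000000 in conv => lhs; reduce)); intro _; exact ?xq9006 : List ℤ × Sm1.Op)
noncomputable def q34 : List ℤ × Sm1.Op :=
  (by
  refine (?fq9007 : ((_root_.Prod.mk (pk61l (fun i1 => (pk61z (pk61d (nat_lit 22) 
    (nat_lit 0x240000700003400004000008000060000680000300003c0000a0000340000200002800010000350000030000b40004d0002480007b0009ca5154d) i1))) (nat_lit 0) (nat_lit 22) List.nil) (_root_.Cfsg.Agent.TAB.Sm1.Op.lin (pk61l (fun i1 => (_root_.Prod.mk (pk61z (pk61d (nat_lit 21) 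
    (nat_lit 0x3a4d84166e36a8a1059c0daa3056e381238501de7c3272c2bba40daa286d51412afc0ccff059b7891c1c2a38227bcb045bf81177859b85b545d) i1)) (pk61d (nat_lit 5) 
    (nat_lit 0x2d5a4e5183dcd5a928398a418820) i1))) (nat_lit 0) (nat_lit 22) List.nil))) : List ℤ × Sm1.Op)
    = ?xq9007 → (List ℤ × Sm1.Op)) ?hq9007; (case hq9007 => (set_option maxRecDepth 1000000 in conv => lhs; reduce)); intro _; exact ?xq9007 : List ℤ × Sm1.Op)
noncomputable def q35 : List ℤ × Sm1.Op :=
  (by
  refine (?fq9008 : ((_root_.Prod.mk (pk61l (fun i1 => (pk61z (pk61d (nat_lit 22) 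
    (nat_lit 0x1c00003000000000080000000000000001c00013000010000070000000000700001c000200002b00001c00010000048001720001330006de2b748) i1))) (nat_lit 0) (nat_lit 22) List.nil) (_root_.Cfsg.Agent.TAB.Sm1.Op.lin (pk61l (fun i1 => (_root_.Prod.mk (pk61z (pk61d (nat_lit 14) 
    (nat_lit 0xbc06982c1869a2c188c40eb00c10a304680b042c103c8149047c3ab087c40103840701212c17) i1)) (pk61d (nat_lit 5) 
    (nat_lit 0x2d5a4e5183dcd5a928398a418820) i1))) (nat_lit 0) (nat_lit 22) List.nil))) : List ℤ × Sm1.Op)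
    = ?xq9008 → (List ℤ × Sm1.Op)) ?hq9008; (case hq9008 => (set_option maxRecDepth 1000000 in conv => lhs; reduce)); intro _; exact ?xq9008 : List ℤ × Sm1.Op)
noncomputable def q36 : List ℤ × Sm1.Op :=
  (by
  refine (?fq9009 : ((_root_.Prod.mk (pk61l (fun i1 => (pk61z (pk61d (nat_lit 20) 
    (nat_lit 0x240000c0000d0000000002000010000500017000000000d00002000020000500000000000000c0004200012001320005400552db912) i1))) (nat_lit 0) (nat_lit 22) List.nil) (_root_.Cfsg.Agent.TAB.Sm1.Op.lin (pk61l (fun i1 => (_root_.Prod.mk (pk61z (pk61d (nat_lit 21) 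
    (nat_lit 0x57f0462a5e5272318a98949c7c830ea1b7b502d1b04c17c41f4e000020a4e40527200e17a09a9c043ab06ded81fd741df820349a00d2c443aab49c82) i1)) i1)) (nat_lit 0) (nat_lit 23) List.nil))) : List ℤ × Sm1.Op)
    = ?xq9009 → (List ℤ × Sm1.Op)) ?hq9009; (case hq9009 => (set_option maxRecDepth 1000000 in conv => lhs; reduce)); intro _; exact ?xq9009 : List ℤ × Sm1.Op)
noncomputable def q37 : List ℤ × Sm1.Op :=
  (by
  refine (?fq9010 : ((_root_.Prod.mk (pk61l (fun i1 => (pk61z (pk61d (nat_lit 23) 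
    (nat_lit 0x480000800001600000c00001800003000028000020000018000140000160000300000600000800001000000c0000a00005300035800018c000d661c9ac) i1))) (nat_lit 0) (nat_lit 22) List.nil) (_root_.Cfsg.Agent.TAB.Sm1.Op.lin (pk61l (fun i1 => (_root_.Prod.mk (pk61z (pk61d (nat_lit 19) 
    (nat_lit 0x29548b97126bfa2e5cc9afd8f65f0cea2054d023c287bfb09b00136000d3e8245403f9c19d501ded070ae03170031843f9bcd7ec) i1)) (pk61d (nat_lit 5) 
    (nat_lit 0x2d5a4e5183dcd5a928398a418820) i1))) (nat_lit 0) (nat_lit 22) List.nil))) : List ℤ × Sm1.Op)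
    = ?xq9010 → (List ℤ × Sm1.Op)) ?hq9010; (case hq9010 => (set_option maxRecDepth 1000000 in conv => lhs; reduce)); intro _; exact ?xq9010 : List ℤ × Sm1.Op)
noncomputable def q38 : List ℤ × Sm1.Op :=
  (by
  refine (?fq9011 : ((_root_.Prod.mk (pk61l (fun i1 => (pk61z (pk61d (nat_lit 22) 
    (nat_lit 0x18000030000440000300001800002000018000170000300000600007800006000004000030003000001700010400016000cd80008f00115afb416) i1))) (nat_lit 0) (nat_lit 22) List.nil) (_root_.Cfsg.Agent.TAB.Sm1.Op.lin (pk61l (fun i1 => (_root_.Prod.mk (pk61z (pk61d (nat_lit 17) 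
    (nat_lit 0x6a0076e4635a1db918d809df42120036685bb84f8000060c6b8635c10fc0ba3051988484265e241d03f580fe051958d79) i1)) i1)) (nat_lit 0) (nat_lit 23) List.nil))) : List ℤ × Sm1.Op)
    = ?xq9011 → (List ℤ × Sm1.Op)) ?hq9011; (case hq9011 => (set_option maxRecDepth 1000000 in conv => lhs; reduce)); intro _; exact ?xq9011 : List ℤ × Sm1.Op)
noncomputable def q39 : List ℤ × Sm1.Op :=
  (by
  refine (?fq9012 : ((_root_.Prod.mk (pk61l (fun i1 => (pk61z (pk61d (nat_lit 19) 
    (nat_lit 0x18001000006000100001800030002800020000a00003000260002c000580034000ae0006c001980004000f60036c00827de04) i1))) (nat_lit 0) (nat_lit 22) List.nil) (_root_.Cfsg.Agent.TAB.Sm1.Op.lin (pk61l (fun i1 => (_root_.Prod.mk (pk61z (pk61d (nat_lit 19) 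
    (nat_lit 0x16f2066f71582e19bd8560b888c9072bc02f1213db844d6000010ac161582c0eb6028570469e1cae4213a87d1d036e603700469c560bb) i1)) i1)) (nat_lit 0) (nat_lit 23) List.nil))) : List ℤ × Sm1.Op)
    = ?xq9012 → (List ℤ × Sm1.Op)) ?hq9012; (case hq9012 => (set_option maxRecDepth 1000000 in conv => lhs; reduce)); intro _; exact ?xq9012 : List ℤ × Sm1.Op)
noncomputable def q40 : List ℤ × Sm1.Op :=
  (by
  refine (?fq9013 : ((_root_.Prod.mk (pk61l (fun i1 => (pk61z (pk61d (nat_lit 23) 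
    (nat_lit 0x80000200001a0000080000100000500001a000028000068000120000240000140000500000900004a000034000068000150008540007480014addc715) i1))) (nat_lit 0) (nat_lit 22) List.nil) (_root_.Cfsg.Agent.TAB.Sm1.Op.lin (pk61l (fun i1 => (_root_.Prod.mk (pk61z (pk61d (nat_lit 21) 
    (nat_lit 0x4abb053d48460f214f521183d86f5e8175a602654840a98380c80000408c1e8460ec0bf9c083610397f85d69c1b0ea1977702cb280b31839801183d5) i1)) i1)) (nat_lit 0) (nat_lit 23) List.nil))) : List ℤ × Sm1.Op)
    = ?xq9013 → (List ℤ × Sm1.Op)) ?hq9013; (case hq9013 => (set_option maxRecDepth 1000000 in conv => lhs; reduce)); intro _; exact ?xq9013 : List ℤ × Sm1.Op)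
noncomputable def q41 : List ℤ × Sm1.Op :=
  (by
  refine (?fq9014 : ((_root_.Prod.mk (pk61l (fun i1 => (pk61z (pk61d (nat_lit 22) 
    (nat_lit 0x80001400002400014000004000050000240002700002000002000024000010000240000f00003c000030000240000e0010b80001400093b023f1) i1))) (nat_lit 0) (nat_lit 22) List.nil) (_root_.Cfsg.Agent.TAB.Sm1.Op.lin (pk61l (fun i1 => (_root_.Prod.mk (pk61z (pk61d (nat_lit 21) 
    (nat_lit 0x2473828e40222c30a390088b103652c0b641012b341f8ac1b56a088b08445840baec080290381685b2041a65218d8102b9b80aeb83816d11621) i1)) (pk61d (nat_lit 5) 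
    (nat_lit 0x2d5a4e5183dcd5a928398a418820) i1))) (nat_lit 0) (nat_lit 22) List.nil))) : List ℤ × Sm1.Op)
    = ?xq9014 → (List ℤ × Sm1.Op)) ?hq9014; (case hq9014 => (set_option maxRecDepth 1000000 in conv => lhs; reduce)); intro _; exact ?xq9014 : List ℤ × Sm1.Op)
noncomputable def q42 : List ℤ × Sm1.Op :=
  (by
  refine (?fq9015 : ((_root_.Prod.mk (pk61l (fun i1 => (pk61z (pk61d (nat_lit 20) 
    (nat_lit 0x2000040000200004000050000600002000080000f000020001d0000a0000200013000b000003000020001a0043a0001b009a5f9c1a) i1))) (nat_lit 0) (nat_lit 22) List.nil) (_root_.Cfsg.Agent.TAB.Sm1.Op.lin (pk61l (fun i1 => (_root_.Prod.mk (pk61z (pk61d (nat_lit 21) 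
    (nat_lit 0x5df20696285812e1a58a1604b08c01c1d5ba0302f8514a046758000030b02485812c0f0e00a529048478756dc2203a2003d0383180e12848485604b5) i1)) i1)) (nat_lit 0) (nat_lit 23) List.nil))) : List ℤ × Sm1.Op)
    = ?xq9015 → (List ℤ × Sm1.Op)) ?hq9015; (case hq9015 => (set_option maxRecDepth 1000000 in conv => lhs; reduce)); intro _; exact ?xq9015 : List ℤ × Sm1.Op)
noncomputable def q43 : List ℤ × Sm1.Op :=
  (by
  refine (?fq9016 : ((_root_.Prod.mk (pk61l (fun i1 => (pk61z (pk61d (nat_lit 21) 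
    (nat_lit 0xa00011000070000180000c00006000030000a40002400005000008000240001200012000330000140008200029002eb0000d40005308bd6) i1))) (nat_lit 0) (nat_lit 22) List.nil) (_root_.Cfsg.Agent.TAB.Sm1.Op.lin (pk61l (fun i1 => (_root_.Prod.mk (pk61z (pk61d (nat_lit 20) 
    (nat_lit 0xee7c2170a37e562170e37e542c6d612a1c03d2b0ce5e165ba000010df950df9504c70068cf05bbf12a1b0acb11451704753023ba16efcdf949) i1)) i1)) (nat_lit 0) (nat_lit 23) List.nil))) : List ℤ × Sm1.Op)
    = ?xq9016 → (List ℤ × Sm1.Op)) ?hq9016; (case hq9016 => (set_option maxRecDepth 1000000 in conv => lhs; reduce)); intro _; exact ?xq9016 : List ℤ × Sm1.Op)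
def q44 : List ℤ × Sm1.Op := ([2857240, 632, 46, 0, 16, 10, 2, 50, 1, 4, 4, 2, 1, 0, 2, 1, 0, 0, 1, 0, 0, 1], .coad
    0 2)
def q45 : List ℤ × Sm1.Op := ([142227009, 2241, 0, 2241, 1, 9, 0, 1, 1, 1, 1, 1, 1, 0, 1, 0, 1, 1, 1, 1, 1, 1],
    .coad 0 3)
def q46 : List ℤ × Sm1.Op := ([122759, 122759, 44, 359, 359, -1, 44, 14, 0, 7, 7, -1, -1, 8, 14, -1, 3, -1, 0, -1,
    2, -1], .adm 23 2)
def q47 : List ℤ × Sm1.Op := ([-2559963385, -7705, -100, -7945, 7, 0, 8, 14, 0, 3, -1, 0, -1, 2, 2, 0, 1, -1, 0, 0,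
    0, -1], .coad 23 5)
def q48 : List ℤ × Sm1.Op := ([893100664, -24424, -152, 0, 48, -86, -16, 8, 8, 12, 4, -14, 5, 0, -8, 13, 0, 0, 2, 0,
    0, -5], .coad 34 2)
def q49 : List ℤ × Sm1.Op := ([4702321799, 11879, 44, 119, 7, -1, 8, 0, 0, 3, -1, -1, -1, 2, 0, -1, 1, -1, 0, -1, 0,
    -1], .coad 23 7)
def q50 : List ℤ × Sm1.Op := ([9740269441, 5761, 1, 5761, 1, 1, 1, 0, 0, 1, 1, 1, 1, 1, 0, 1, 1, 1, 1, 1, 0, 1],
    .coad 0 7)
def q51 : List ℤ × Sm1.Op := ([-616650050256240, -15422640, 12525, -561680, -112, 0, -51, -910, 0, -8, 0, 0, 0, 37,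
    -2, 0, 0, 0, 0, 0, 0, 0], .del 23 3)
def q52 : List ℤ × Sm1.Op := ([0, 0, 0, 0, 0, 0, 0, 0, 0, -40, -24, 0, 0, 0, 0, 0, 0, -8, 0, 0, 0, 0], .del 25 2)
def q53 : List ℤ × Sm1.Op := ([-677948253, 17571, -1176, -861, -861, -153, -240, -2628, -66, -45, -45, -9, -15, -96,
    36, -171, 3, 3, 0, -1, 0, -15], .del 33 2)
def q54 : List ℤ × Sm1.Op := ([1420692615, -4185, 0, 9495, 7, -45, 0, -8, -8, -5, -1, -5, 1, 0, -20, 0, -3, -1, 10,
    -5, 10, 1], .coad 41 3)
def q55 : List ℤ × Sm1.Op := ([122759, 359, 122759, 119, 7, -1, 359, 14, 0, 3, -1, -1, -1, 119, 2, -1, 1, -1, 0, -1,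
    0, -1], .adm 23 3)
def q56 : List ℤ × Sm1.Op := ([122759, 359, 44, 119, 7, 122759, 8, 14, 0, 3, -1, 359, -1, 2, 2, 44, 1, -1, 0, 119,
    0, -1], .adm 23 5)
def q57 : List ℤ × Sm1.Op := ([-7534824661, -3061, -946, -6901, 155, -1, -10, -91, 0, -1, 3, -1, -1, 2, 5, -1, 1,
    -1, 0, -1, 1, -1], .del 23 2)
def q58 : List ℤ × Sm1.Op := ([-9964978551, -125367, -27261, -191415, 105, -21, -141, -1431, -3, -7, 1, -37, 0, -21,
    -39, -21, -7, 1, -6, -5, -7, 0], .del 30 2)
def q59 : List ℤ × Sm1.Op := ([-33228744321, 120447, -6105, -1857, 63, -351, -153, -990, -325, -17, -17, -63, -3,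
    -57, -30, -45, -5, -5, -1, -7, -30, -3], .del 39 2)
def q60 : List ℤ × Sm1.Op := ([-101102678628, -7044, -861, -11364, 300, -528, 3, 0, 0, 0, 4, 16, -28, 3, -72, -6,
    -2, 0, 0, -24, -24, -153], .del 36 2)
noncomputable def q61 : List ℤ × Sm1.Op :=
  (by
  refine (?fq9017 : ((_root_.Prod.mk (pk61l (fun i1 => (pk61z (pk61d (nat_lit 17) 
    (nat_lit 0x100008000000020002000100008000200000001000180002000200010000400040001000080044011dc78e) i1))) (nat_lit 0) (nat_lit 22) List.nil) (_root_.Cfsg.Agent.TAB.Sm1.Op.lin (pk61l (fun i1 => (_root_.Prod.mk (pk61z (pk61d (nat_lit 154) 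
    (nat_lit 0x400000000000000000000000000000000007bc800000000000000000000000000000002f2d91400000000000000000000000000000000000f79400000000000000000000000000007aa230d92b40000000000000000000000000115c412b0128a000000000000000000000000aac40dbee14964800000000000000000000001cfcbc04c01f2e7b000000000000000000000117d3c4c12f64f5f040000000000000252e43a17d6778ea8547454a6000000000007e2da3ac0bafdea520265e7ec09000000000f34212b4755cf7b1ececf6ec777fdc0000002f2f10a7cd264f537ab46f05649eb440c000b349fbf603ae69bbf526bb80c7b8a095ad0026128732d1ee39246c2517034722598e955bd2e7f722d1fda51ef237bf92ebc8149d9c9f00390b6fd3ae4da4d275710806f78f25f425c26ad582dbf4eb9369349d5c4201bde3c97d09709ab5617c6613b5305f76b4d607aa0a992ebaad2ff1709069d8d9626b5b6d9d02ba5e6a86cf5d09945f27f6db25bb9731593683850f36cc204c7aa85e4470970a4dbc6347358ecca8c4dab3bc8661d732f4233856f5e8c13b2586b88b4dcba3c900d270901a59ce7e75a93d2fc1fc754f1e68bb64f7b81705cff92564eb1ead93fe08881cd676bf754bc7a7cff9102dcd4ed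ca7a0a4a72203c611ee17a113c3dda1d6acff0db069fdfc308c0e0ac276ac066eec51873214b3334e69db939689db51430c18a8612ac30ed49b899f8a94c506511e23d3db0f54a7d34b81a9a1156a192be7d3b08ff17856944fadd3a4004c45ee30346b0320037db1795678f0bfe0f018a204e26b7fc4c34fe6f83835944c0180c2e6739a709fd1813eec34090c64f9d1a18a2e242898e4d54ddd71ebef7ee208882736b77009d73978f47f41d241c2963dac57b4faa3b95474ab41e699925950b8903cd45b3ecd070f700972b648223d5a640240536e107bf0325134eb1dade45ae864ba8a2bbc9665c33307044b8014cea) i1)) (pk61d (nat_lit 6) 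
    (nat_lit 0xefae78df6d74cf2c70beeb6caeaa689e69648e28607de75c6da6585c0) i1))) (nat_lit 0) (nat_lit 38) List.nil))) : List ℤ × Sm1.Op)
    = ?xq9017 → (List ℤ × Sm1.Op)) ?hq9017; (case hq9017 => (set_option maxRecDepth 1000000 in conv => lhs; reduce)); intro _; exact ?xq9017 : List ℤ × Sm1.Op)
noncomputable def q62 : List ℤ × Sm1.Op :=
  (by
  refine (?fq9018 : ((_root_.Prod.mk (pk61l (fun i1 => (pk61z (pk61d (nat_lit 17) 
    (nat_lit 0x20001000000002000100010000800020000000100004000200020001000040004000e004700044011dc78e) i1))) (nat_lit 0) (nat_lit 22) List.nil) (_root_.Cfsg.Agent.TAB.Sm1.Op.lin (pk61l (fun i1 => (_root_.Prod.mk (pk61z (pk61d (nat_lit 167) 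
    (nat_lit 0x4000000000000000000000000000000000000024a3000000000000000000000000000000000011b57ccd000000000000000000000000000000035ff26a6faa00000000000000000000000000000000008dae304c0000000000000000000000000002316e817d619b80000000000000000000000000027bd2cbd1c858737000000000000000000000000c3726197ec9e78b41e00000000000000000000001096a16a3f0456e815280000000000000000000005011572bf78c74ca58e500000000000000551be5e13a4d1ce0c5dc52f8661700000000000906a3abf5558527371c5990c4d905fa000000008b354e2e4750f2eaef90bd19f27eeee3ac000000d80375e30ddcae4b99a140ad9995149a4a600019a67564365ad9048d2d18f9cd88c63d37172fd02b93344316fce1366b8a67bbba10284fb394efe77a9bee8c471d12192d6ef7135a43cc9cc016f1f3710345bf4874c4e934c945bfdf3c297df78bf29df635868b7e90e989d269928b7fbe7852fbef17e53bec6b1b360cfcaaa4ec3d3c5133d7707f61471a7a7701ba52a491b0e0bb5cb74840138ed6a591c07b32de3070b6f621482de067c2cf0a46dfbf17cf9ee184bd8340a29b9a11d36cf51375a1a9ffe4a6311acaecd35903616c46030c5cdd9d74d93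29e847efe5469917c6325277137da4ba1141ab966311cb8e57291a880bbddc69669af95779a55e5184ec63a0566f9a36a12322c118621df07249a8fd287b7bcea3bdc181bd42471cb13b9f293603ffe438984c41948c1eb117819cc2e8803ae7a325784eef58319a17fd2a7fd9e213673e5fc70e2db9b84e6cbc0bbbeffbe0462dcfa0fd8671a7a317c7c75acb685eb5dcd26a987e93af19113959624ef31e567ddbfc63e79f0c64a1642532b81f4dbbe689c5ccb76dd104532444d2542c7088721b585a8d8c06e17c33c272e226f8fb658e86c5046e14311ba72974d9e83a54fef2f47224259a186cbaac26f1dd05c00b4354a7e2305905f2365df24edd7c15dee04f3d042c4007b6babdffa15cd6a4f2d67dcbf51074ee7fa0d2a7c7d807fe58d817a33da3241c71d95fcd4aede90cb6f1aaaeca4fa552d9094a85cda1f8d5680297) i1)) (pk61d (nat_lit 6) 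
    (nat_lit 0x3cefae78df6d74cf2c70beeb6caeaa689e69648e28607de75c6da6585c0) i1))) (nat_lit 0) (nat_lit 39) List.nil))) : List ℤ × Sm1.Op)
    = ?xq9018 → (List ℤ × Sm1.Op)) ?hq9018; (case hq9018 => (set_option maxRecDepth 1000000 in conv => lhs; reduce)); intro _; exact ?xq9018 : List ℤ × Sm1.Op)
noncomputable def q63 : List ℤ × Sm1.Op :=
  (by
  refine (?fq9019 : ((_root_.Prod.mk (pk61l (fun i1 => (pk61z (pk61d (nat_lit 19) 
    (nat_lit 0x10000000000000040000000000000600000000000002000000000000000000000000000000010000000000000040000055c00) i1))) (nat_lit 0) (nat_lit 22) List.nil) (_root_.Cfsg.Agent.TAB.Sm1.Op.lin (pk61l (fun i1 => (_root_.Prod.mk (pk61z (pk61d (nat_lit 167) 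
    (nat_lit 0x8000000000000000000000000000000000000024a2800000000000000000000000000000000011b57cce000000000000000000000000000000035ff26a6fac00000000000000000000000000000000008dae30500000000000000000000000000002316e817d619b78000000000000000000000000027bd2cbd1c858738000000000000000000000000c3726197ec9e78b42000000000000000000000001096a16a3f0456e8151c0000000000000000000005011572bf78c74ca58d880000000000000551be5e13a4d1ce0c5cf918cea5400000000000906a3abf5558527371aff434801b404000000008b354e2e4750f2eaef7be00720e501b020000000d80375e30ddcae4b9980e0c6c466594f80780019a67564365ad9048d2940d71c75ff784017d6602b93344316fce1366b83dfde461b1be7c192f6dc1a9bee8c471d12192d6afa26763afcc6e8408515fbc345bf4874c4e934c9454250f51def14d7a6a9a9bb068b7e90e989d269928a84a1ea3bde29af4d5353761b360cfcaaa4ec3d3c4d1fd163b74f28927e4689b052a491b0e0bb5cb74833b0c1dfc372ddaf92039facb6f621482de067c2ceeedb1921828d9a900d848748a29b9a11d36cf51375894b244a7de203cd951d69b3616c46030c5cdd9d74577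e7e004327f7738f642445277137da4ba1141ab8a0716486bce3b933f2838d069669af95779a55e5175206c221c5c31bdb63dbef918621df07249a8fd28517632b8e745678ce321b6a13b9f293603ffe438981cf3f59877e900a381bb8b203ae7a325784eef58319143f4f80f0d4ce0f0c318070e2db9b84e6cbc0bbae1494ae1d5b266bce769182317c7c75acb685eb5d78ffd46507a4204401dc3914ef31e567ddbfc63e793374a41571cbcb47f0940c889c5ccb76dd1045324302c55a2bfb62d7b327d605806e17c33c272e226f8fa5d8eb82f1b674f9f406e2174d9e83a54fef2f471ec443a6ee2699286d431ca500b4354a7e2305905f234add013c0ec1a51c7ba78e42c4007b6babdffa15c368ad8da8c59c99a771dd9e0d2a7c7d807fe58d812b7e8a33b5c86d562bc0f4d690cb6f1aaaeca4fa5431a8aaeae7b5f970af02e1a) i1)) (pk61d (nat_lit 6) 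
    (nat_lit 0x3cefae78df6d74cf2c70beeb6caeaa689e69648e28607de75c6da6585c0) i1))) (nat_lit 0) (nat_lit 39) List.nil))) : List ℤ × Sm1.Op)
    = ?xq9019 → (List ℤ × Sm1.Op)) ?hq9019; (case hq9019 => (set_option maxRecDepth 1000000 in conv => lhs; reduce)); intro _; exact ?xq9019 : List ℤ × Sm1.Op)
noncomputable def q64 : List ℤ × Sm1.Op :=
  (by
  refine (?fq9020 : ((_root_.Prod.mk (pk61l (fun i1 => (pk61z (pk61d (nat_lit 10) 
    (nat_lit 0x40100400010000100200c010080301002008030340411023352ab) i1))) (nat_lit 0) (nat_lit 22) List.nil) (_root_.Cfsg.Agent.TAB.Sm1.Op.lin (pk61l (fun i1 => (_root_.Prod.mk (pk61z (pk61d (nat_lit 154) 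
    (nat_lit 0x400000000000000000000000000000000007bc800000000000000000000000000000002f2d91400000000000000000000000000000000000f79400000000000000000000000000007aa230d92b40000000000000000000000000115c412b0128a000000000000000000000000aac40dbee14964000000000000000000000001cfcbc04c01f2e69000000000000000000000117d3c4c12f64f52840000000000000252e43a17d6778cff25204b4a000000000007e2da3ac0bafde4af14de00825a000000000f34212b4755cf7040ffad7284995fc0000002f2f10a7cd264f31c179528e168dabd64000b349fbf603ae693bd0a25dcd1a379ccfc54026128732d1ee3909360a5fd090618a837b8e7ae7f722d1fda51cde7c5e3ce0f35f03f6f1cd610b6fd3ae4da4d26d446f6744d14cdfc3a6fcef82dbf4eb9369349b511bd9d1345337f0e9bf3be17c6613b5305f75a4f47462d4f0ba081425dd089069d8d9626b5b0665ac0b3c5cd3281d231cad27f6db25bb97313ca63f4cee79111a65996663c470970a4dbc63440934df675fc60877d9ceaa72f4233856f5e8bf1eb6ff55dd018a6990634170901a59ce7e75a8d6313cbc8d1c036cb63365441705cff92564eb0e391cdb53c8c9ddca2dfeb1c7a7cff9102dcd496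3eca8fdcfeb70d211323fa113c3dda1d6acfe4897a9101dd800dc7ce4a134066eec51873214ae9a34cfcdf9f99bf83aa5ac18a8612ac30ed489e9ff26e24ce57b014869d60f54a7d34b81a996205bae7b8b0fefacc033d2344fadd3a4004c42d95c00e25b43ea0d17ef8ec8f0bfe0f018a20436598bfc2a93fefd10debf2e0180c2e6739a709ebe8172726b8b3626c718b68a2e242898e4d54696c422347a3e6f9097c7315009d73978f47f41cb3933f59c0ae683b506162474ab41e6999258fd55a2b83ad70bbc9e5351df72b648223d5a63b0437573773f5d85162d5507ade45ae864ba8a0aefb94d50c7657e845719e78) i1)) (pk61d (nat_lit 6) 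
    (nat_lit 0xefae78df6d74cf2c70beeb6caeaa689e69648e28607de75c6da6585c0) i1))) (nat_lit 0) (nat_lit 38) List.nil))) : List ℤ × Sm1.Op)
    = ?xq9020 → (List ℤ × Sm1.Op)) ?hq9020; (case hq9020 => (set_option maxRecDepth 1000000 in conv => lhs; reduce)); intro _; exact ?xq9020 : List ℤ × Sm1.Op)
noncomputable def q65 : List ℤ × Sm1.Op :=
  (by
  refine (?fq9021 : ((_root_.Prod.mk (pk61l (fun i1 => (pk61z (pk61d (nat_lit 17) 
    (nat_lit 0x200000000000000002000600010000000020001000000024000c0000000000004001e0006002300044008dca39) i1))) (nat_lit 0) (nat_lit 22) List.nil) (_root_.Cfsg.Agent.TAB.Sm1.Op.lin (pk61l (fun i1 => (_root_.Prod.mk (pk61z (pk61d (nat_lit 98) 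
    (nat_lit 0x40000000000000000000000140000000000000000000000ce000000000000001b5f0bf851b000000000005ce373782465ac00000000b31436d429067ff700000022bc3a532072b3fa9a800083fca70ec53faaeed350b01c071665b116c5591976c21623af14e629137b5576ee93f0086b5fc338719ad642079b0ec21ad7f0ce1c66b59081e6c3b118099f60c33dec704067a0246a5009ecd99cd915670ea69a1d6ba26d0d23010ae9a585058344b8c8db85bf60012a2884822ca50b7330b187925291fd9c6a158420afdd4beed34b8f8b10f2d6dea6684d5d70a6a70305a2c09391a0854ceed69b3ff0cb0274cc5156e329a252a48804bc69bad751bc73fd07ff971226f9ae6479be1c20792698cb49353fd323f728f9bd4f6ce32c7e6848ba814952b8c254fcb13b736b035213bbd720d375011b3fcaee752fc4b458f1efc77e8f29647d6ecfeca2dbbb00073e92e80522805bc99da60055e355ec888129fbcfe899965472887a8cd714bde28732d7e1c8c5022f91c785e840a7583) i1)) (pk61d (nat_lit 6) 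
    (nat_lit 0xd74cf2c70beeb6caeaa689e69648e28607de75c6da6585c0) i1))) (nat_lit 0) (nat_lit 32) List.nil))) : List ℤ × Sm1.Op)
    = ?xq9021 → (List ℤ × Sm1.Op)) ?hq9021; (case hq9021 => (set_option maxRecDepth 1000000 in conv => lhs; reduce)); intro _; exact ?xq9021 : List ℤ × Sm1.Op)
noncomputable def q66 : List ℤ × Sm1.Op :=
  (by
  refine (?fq9022 : ((_root_.Prod.mk (pk61l (fun i1 => (pk61z (pk61d (nat_lit 16) 
    (nat_lit 0x20002000100000001000100030002000100020001000600060000000d0001000e00160169002e0169fa69) i1))) (nat_lit 0) (nat_lit 22) List.nil) (_root_.Cfsg.Agent.TAB.Sm1.Op.lin (pk61l (fun i1 => (_root_.Prod.mk (pk61z (pk61d (nat_lit 154) 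
    (nat_lit 0x400000000000000000000000000000000007bc800000000000000000000000000000002f2d91400000000000000000000000000000000000f79400000000000000000000000000007aa230d92b40000000000000000000000000115c412b0128a000000000000000000000000aac40dbee14964800000000000000000000001cfcbc04c01f2e79000000000000000000000117d3c4c12f64f5eac0000000000000252e43a17d6778e9ca3272338000000000007e2da3ac0bafdea2a542f99fde0000000000f34212b4755cf7ad24edfc3b8261140000002f2f10a7cd264f528d4a7cea80fd5aa6c000b349fbf603ae69b86f06ee869c15bf4e924026128732d1ee3923ac93b70f8fe4d3b7e04262e7f722d1fda51ee3985af97d39aca1683c72a30b6fd3ae4da4d275377c2667b43787fed5571602dbf4eb9369349d4ddf0999ed0de1ffb555c5817c6613b5305f76ad5bfc929f6cfbb833c1eb209069d8d9626b5b6ac65e6c76a3a1f23297837727f6db25bb9731586d6d29e151b387c3332e1cc470970a4dbc63471f37d8b0d566072c22c55172f4233856f5e8c12c48e2fec0fbe859e5d5f400901a59ce7e75a93a5aadae696f2a8cbb363c781705cff92564eb1e39bc3c6b165e898b441df647a7cff9102dcd4eb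6227c62ca865ada17ba042113c3dda1d6acff0844da7213b4ccfe3a8ad934066eec51873214b312efa122b058c93f0482fc18a8612ac30ed49b0d8db0c70370619cdc37738f54a7d34b81a9a0c8468076be6c93a679e878d44fadd3a4004c45d87ed965a069663caebfda78f0bfe0f018a204ddb0201a8d1580cff66f1c140180c2e6739a709fc9f1405697068358d3645d8a2e242898e4d54daa38a9942e40ac8b624625b009d73978f47f41d2103eaa227e82911e53350474ab41e69992594e6d85dd8f027764ba227a5d72b648223d5a63ffff21ce1c3bb9f4ec98673c2de45ae864ba8a2ad5ac7a2b4ce629e62eb7968) i1)) (pk61d (nat_lit 6) 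
    (nat_lit 0xefae78df6d74cf2c70beeb6caeaa689e69648e28607de75c6da6585c0) i1))) (nat_lit 0) (nat_lit 38) List.nil))) : List ℤ × Sm1.Op)
    = ?xq9022 → (List ℤ × Sm1.Op)) ?hq9022; (case hq9022 => (set_option maxRecDepth 1000000 in conv => lhs; reduce)); intro _; exact ?xq9022 : List ℤ × Sm1.Op)
noncomputable def q67 : List ℤ × Sm1.Op :=
  (by
  refine (?fq9023 : ((_root_.Prod.mk (pk61l (fun i1 => (pk61z (pk61d (nat_lit 17) 
    (nat_lit 0x40004000280008000000000002800100000000200028000000000004000200000000a001000480003c0121c790) i1))) (nat_lit 0) (nat_lit 22) List.nil) (_root_.Cfsg.Agent.TAB.Sm1.Op.lin (pk61l (fun i1 => (_root_.Prod.mk (pk61z (pk61d (nat_lit 167) 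
    (nat_lit 0x4000000000000000000000000000000000000024a3000000000000000000000000000000000011b57ccd000000000000000000000000000000035ff26a6faa00000000000000000000000000000000008dae304c0000000000000000000000000002316e817d619b80000000000000000000000000027bd2cbd1c858737000000000000000000000000c3726197ec9e78b41e00000000000000000000001096a16a3f0456e815280000000000000000000005011572bf78c74ca58e500000000000000551be5e13a4d1ce0c5dc52f8661700000000000906a3abf5558527371c5990c4d905fa000000008b354e2e4750f2eaef90bd19f27eeee3ac000000d80375e30ddcae4b99a140ad9995149a4a100019a67564365ad9048d2d18f9cd88c63d370db4d02b93344316fce1366b8a67bbba10284fb384d4df7a9bee8c471d12192d6ef7135a43cc9cc00d1c38390345bf4874c4e934c945bfdf3c297df78bf1685348868b7e90e989d269928b7fbe7852fbef17e2d0a6911b360cfcaaa4ec3d3c5133d7707f61471a70684fe652a491b0e0bb5cb74840138ed6a591c07b145297d0b6f621482de067c2cf0a46dfbf17cf9ee1411ddb00a29b9a11d36cf51375a1a9ffe4a6311acab0b98863616c46030c5cdd9d74d93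29e847efe5468519ecde5277137da4ba1141ab966311cb8e57291a6990f5b469669af95779a55e5184ec63a0566f9a367a2e337118621df07249a8fd287b7bcea3bdc181bcdaa57bb13b9f293603ffe438984c41948c1eb11781281b0c803ae7a325784eef58319a17fd2a7fd9e2135178d9470e2db9b84e6cbc0bbbeffbe0462dcfa0faeade8ea317c7c75acb685eb5dcd26a987e93af190440e3b64ef31e567ddbfc63e79f0c64a1642532b8021f94fa89c5ccb76dd104532444d2542c7088721b256e9efc06e17c33c272e226f8fb658e86c5046e142e9098e974d9e83a54fef2f47224259a186cbaac26680e28400b4354a7e2305905f2365df24edd7c15dedc258ac42c4007b6babdffa15cd6a4f2d67dcbf50eea199320d2a7c7d807fe58d817a33da3241c71d953ab9ecae90cb6f1aaaeca4fa552d9094a85cda1f8ae944cb7) i1)) (pk61d (nat_lit 6) 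
    (nat_lit 0x3cefae78df6d74cf2c70beeb6caeaa689e69648e28607de75c6da6585c0) i1))) (nat_lit 0) (nat_lit 39) List.nil))) : List ℤ × Sm1.Op)
    = ?xq9023 → (List ℤ × Sm1.Op)) ?hq9023; (case hq9023 => (set_option maxRecDepth 1000000 in conv => lhs; reduce)); intro _; exact ?xq9023 : List ℤ × Sm1.Op)
noncomputable def q68 : List ℤ × Sm1.Op :=
  (by
  refine (?fq9024 : ((_root_.Prod.mk (pk61l (fun i1 => (pk61z (pk61d (nat_lit 16) 
    (nat_lit 0x100000004000000030000000200030004000100000004000c0001000c0004000f0013016c001b00dccd23) i1))) (nat_lit 0) (nat_lit 22) List.nil) (_root_.Cfsg.Agent.TAB.Sm1.Op.lin (pk61l (fun i1 => (_root_.Prod.mk (pk61z (pk61d (nat_lit 98) 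
    (nat_lit 0x40000000000000000000000160000000000000000000000d4800000000000001c3c2494b29000000000005fd1c606a03f6c00000000b8bac142401fd69300000023d4cece578721214000008826cca3ed03c0d7af67d01ce97c62b9de08732c644a8e34f7176cf2020d2d4504892a08af6229b3ea805594880ddf422bd88a6cfaa01565220377d120dfac7c70ade396b8a0e3746daacc1a5ffbabcfc54a046e1e59487bb7c3aa5edbac94ea035f1f8c17cffbbaa8c38a3fc23e356fda6614abb1e5065f746d6e6d943259af89669ff5ed117bbe94ec20e2fb0958caa085d046a7254959b7c2c0b88230d16a4cfd4cfd29264359a12804e2ab33b1d3aaf0e4813de312b99a69fa90f16188f30a2ecba45f51636e9373065baf1bc3462176c375a94fb0b028e71cb6d31305a0a59fad939e6d0f01242fc9422efad0e60a221d47bb18a65c0cddff2ea7dd99000779178ab0e5d945d5eaac5058991c5d20597ea7dcd69ad8571cabda7f066f30723d9210e2d9aaea11a8f485c81a3aab7) i1)) (pk61d (nat_lit 6) 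
    (nat_lit 0xd74cf2c70beeb6caeaa689e69648e28607de75c6da6585c0) i1))) (nat_lit 0) (nat_lit 32) List.nil))) : List ℤ × Sm1.Op)
    = ?xq9024 → (List ℤ × Sm1.Op)) ?hq9024; (case hq9024 => (set_option maxRecDepth 1000000 in conv => lhs; reduce)); intro _; exact ?xq9024 : List ℤ × Sm1.Op)
noncomputable def q69 : List ℤ × Sm1.Op :=
  (by
  refine (?fq9025 : ((_root_.Prod.mk (pk61l (fun i1 => (pk61z (pk61d (nat_lit 16) 
    (nat_lit 0x20000000300020002000100000003000500020000000200050001000c000a0000001a0125000a000aca75) i1))) (nat_lit 0) (nat_lit 22) List.nil) (_root_.Cfsg.Agent.TAB.Sm1.Op.lin (pk61l (fun i1 => (_root_.Prod.mk (pk61z (pk61d (nat_lit 167) 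
    (nat_lit 0x4000000000000000000000000000000000000024a2000000000000000000000000000000000011b50105000000000000000000000000000000035fdad3a70600000000000000000000000000000000008daa51fc0000000000000000000000000002315f2d3743dcd0000000000000000000000000027bc16f909a65e4f000000000000000000000000c36d0b777dbfd7d2d6000000000000000000000010962d774eddae83ce00000000000000000000000500f27846dab365afcf100000000000000551992fcffd06d8fb4de523d88590000000000090664952374cd64dabd9bd3d80f3e3a000000008b318125fbda2a37c35a8eaa5c712452bc000000d7fd9000f7e3143d08d4173ba44afcfe9cb00019a5c21a3a4670a0dff3859c8564e066c0e2bfb02b9203aedd32afc711430371b95120681da41cd3ba9b348e7e490b1d14fe71b018529c1b4cfde457468345a868cd646d41f66140c41114117ef82b90718a868b50d19ac8da83ecc28188222822fdf05720e3151b354ec9a0aa15dc7474a5dfc0cbfaa1feccc521aa52a250097cf3e642d89851feaafa2e39187a350240b6f1226cc850299150fb5208134dc7a46e8ed70c30a297297ac85e8b6fe809f326c25668b7ced316e5836154a4e945a3ba095e651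348748949c219cce8aa25274d3143d1e608bcc5bf6a9ab07e67fdc3ca9efdc6963ba3f57d8149b6c8d9a20aeb71b111a70d62121185a762077ed401451ff2986203087e3a600115fd13b968b17157b3284f7e11ec366b33d5d19c33861c03ae6076a63a756b4d947a2ad6f9d081c9273509fc70dfc68f5f08a7270ae2a4dfea9b00022894931dca316d27cdd6d1b3b7d381323e3761f59d879a00ff84ef0f67f93ac6fbe8da9e8911e8944180e3e21921689c209b7e96d62027c17488c4ecdb18dffad4cea9c06e14c1b659c47a2346b13b867a8e6e18319a6323974cfba162aac41e89c4e47bf9baac0c6f1499569200b4305ee165b5c89fe245315120c7d8b10cdf552442c22dce63c25d16615d8a006ed2b22435a411a11a0d1c25b479c9f312a89f00f118a48f0e5dee18a32e909d8abfbac0504d9a13156763ad02ae4b8fa3a33) i1)) (pk61d (nat_lit 6) 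
    (nat_lit 0x3cefae78df6d74cf2c70beeb6caeaa689e69648e28607de75c6da6585c0) i1))) (nat_lit 0) (nat_lit 39) List.nil))) : List ℤ × Sm1.Op)
    = ?xq9025 → (List ℤ × Sm1.Op)) ?hq9025; (case hq9025 => (set_option maxRecDepth 1000000 in conv => lhs; reduce)); intro _; exact ?xq9025 : List ℤ × Sm1.Op)
noncomputable def q70 : List ℤ × Sm1.Op :=
  (by
  refine (?fq9026 : ((_root_.Prod.mk (pk61l (fun i1 => (pk61z (pk61d (nat_lit 18) 
    (nat_lit 0x3000080004000040001000100003000000000000080001000040002000b0000000034001100044004000046f1ee) i1))) (nat_lit 0) (nat_lit 22) List.nil) (_root_.Cfsg.Agent.TAB.Sm1.Op.lin (pk61l (fun i1 => (_root_.Prod.mk (pk61z (pk61d (nat_lit 154) 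
    (nat_lit 0x800000000000000000000000000000000007bc900000000000000000000000000000002f2e546c0000000000000000000000000000000000f79700000000000000000000000000007aa42c370000000000000000000000000000115c88fe06eb3000000000000000000000000aac6d03f6bdd02400000000000000000000001cfd33f23c14284e000000000000000000000117d84a78c1dbe3e900000000000000252edd74fe4704377920d1fdf000000000007e2fadb4392d222c3f864ba7faec00000000f34601204abfd32d8dd2ea3585958b0000002f2fd3ddfee478f43c904114b57c05f30000b34ce1b9c33d82ec463f755a7ef31ffb3090261324b6b5c13a424f57f86da019cbae4a0ad6e80328cbcd226096a06f081b85ac9d850bdcb40b7002ff799acfc0e1bfc8cf96c7f4fd5f100e42dc00bfde66b3f0386ff233e5b1fd3f57c403917c6c3983d9e5b928a6254959fd7bedfaba054c906c2e5322ea298605f68d1f2f25545d851c7227f7807d6966e98559d7bf7225060afae3490f0470a968ab1b943fb5dd819e41c403626ad3e722f42f70accfa587152dc01c816bc75b80e06d2c901cadff5977239c134381f62da7d69273626317062f395c920b84d057e308b0cd3e09148c4387a7efa54f75f6394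591059bfa848bb8b6a0683113c8528b10cf2a6266a8dae78761df88e18e50066f06ef45a2c8358f82f3f9472efa025ff9a718a8c72eb28422cbe849c69a38b0a12e98735a4f54e7409a5bd772137ddaf492fcf28acfa1a7444fbfa9d819d2d550cb7858dc5e4c788434c024f0c3c4fb01afe203d3fc1b9d536a29dd97d2530180c91e4ed9971b3ab49af274d55e182cc3a4ca2e4e46df751e8943f90c1ef87f884660748a4009d7622fa24204260cbe2b294b443a85133db074ad24971d483c97995d87c2b55c3937f5d6ea72b822ba16d716dc0c720889bd87e387fcdf2e6de518c65b141405263979a664bdf5a89ca0c05) i1)) (pk61d (nat_lit 6) 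
    (nat_lit 0xefae78df6d74cf2c70beeb6caeaa689e69648e28607de75c6da6585c0) i1))) (nat_lit 0) (nat_lit 38) List.nil))) : List ℤ × Sm1.Op)
    = ?xq9026 → (List ℤ × Sm1.Op)) ?hq9026; (case hq9026 => (set_option maxRecDepth 1000000 in conv => lhs; reduce)); intro _; exact ?xq9026 : List ℤ × Sm1.Op)
noncomputable def q71 : List ℤ × Sm1.Op :=
  (by
  refine (?fq9027 : ((_root_.Prod.mk (pk61l (fun i1 => (pk61z (pk61d (nat_lit 19) 
    (nat_lit 0x8000000003000040000c0003800000000000020000000006000460004000078000700230000800063e8907) i1))) (nat_lit 0) (nat_lit 22) List.nil) (_root_.Cfsg.Agent.TAB.Sm1.Op.lin (pk61l (fun i1 => (_root_.Prod.mk (pk61z (pk61d (nat_lit 98) 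
    (nat_lit 0x80000000000000000000000150000000000000000000000d2400000000000001bf81d021f4000000000005eeae7b368701000000000b6fdaa5b77ee3f4e000000237e79bc1ff096fdb5c00086dec11394d669be5ed8801ca3d3289061d4d5db7e2c2a2fa5db9249c354a115d9ab4d089a751ddcdfc9e52b3981e302269d477737f2794ace6078c11e27a873f28b60adee3a5b606ca2905b2539496459c2ac571e102914bef884b9302ecf1bc356ffed8f2d879c0617a5e03238cdee7f9ca8270e7d4aed306c66c349478cf33fdc6a49fc11519eab9bf647fc1e8b3190c5c244c881d1da207844317080cf71bbb32b4ad7f8790eda3404d6e5d36eb1f8e539889354128c7ca66a4fd39ee567bd818b88525fad6e229818f093a7133e3e0fd8d75419a8273c8880b51a9324d67f60d87892994401216fc9c5fbe196270c492b87a8783123bb11b4340b6c5d700767161d8fe52b0aa81a8b1457c3a43a7d5077e82de14aaf564ac85a8515cea37a463b0c2285b2f17e0c5a811ad7fce74) i1)) (pk61d (nat_lit 6) 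
    (nat_lit 0xd74cf2c70beeb6caeaa689e69648e28607de75c6da6585c0) i1))) (nat_lit 0) (nat_lit 32) List.nil))) : List ℤ × Sm1.Op)
    = ?xq9027 → (List ℤ × Sm1.Op)) ?hq9027; (case hq9027 => (set_option maxRecDepth 1000000 in conv => lhs; reduce)); intro _; exact ?xq9027 : List ℤ × Sm1.Op)
noncomputable def q72 : List ℤ × Sm1.Op :=
  (by
  refine (?fq9028 : ((_root_.Prod.mk (pk61l (fun i1 => (pk61z (pk61d (nat_lit 17) 
    (nat_lit 0x200040000800040000000000030000c0010000100030000000000003000180000000c000f00b800040011fc78f) i1))) (nat_lit 0) (nat_lit 22) List.nil) (_root_.Cfsg.Agent.TAB.Sm1.Op.lin (pk61l (fun i1 => (_root_.Prod.mk (pk61z (pk61d (nat_lit 154) 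
    (nat_lit 0x800000000000000000000000000000000007bc900000000000000000000000000000002f2e54740000000000000000000000000000000000f79700000000000000000000000000007aa42c4bca80000000000000000000000000115c8900f8633000000000000000000000000aac6d05c5f620f400000000000000000000001cfd33f7262c4f06000000000000000000000117d84aa832d2c14180000000000000252edd7b4bfb6da375dbcb5ff000000000007e2fadc99d85b7e2bc6cb4822e8c00000000f3460149888d9e079693325d30e87f0000002f2fd3e5febfe0f60516c7ec89d6d8d58000b34ce1d828adf4e9a3f785bfc784d1e8c750261324bd2a28abfd74543122600c67a06193bee8032949ee765ab9f342f60eba2be3cd4afbfc0b70030169fb5774cc6db449f4382e2beb4e7fc2dc00c05a7ed5dd331b6d127d0e0b8afad39ff17c6c39c457d4f731656fab7150f3dd9879c5d4906c2e6b9eb2af567a28931247a4c77f0d6ce827f780842feafd5960b564e49d6a590437a3c60470a9696bcd77260b9ed893e5a874d2af5fc9a2f42f712d0144b53e892178969597d9d12041bc901cae17c7c56482b07bd248e55f5cc455b31717062f3d43cb40d2ba8177a73e90cccd4d7dcb07a7efa69bb90fd72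a0f76fb9e97b49c64be4ab113c852b9d1788702b21875a845eefa4c2f3a40066f06f05cd9f85020808450144b905c94ea5918a8c732e0b3d9fa659b2173a33af065feb1b3cf54e74333bc62c866bd22279d55fcd49ceafd244fbfaa93375187250f8cfc56090393db315404f0c3c523d29d60342af82d4e6feb9a5ade64cf0180c91e9014de52ed1fa4d4cc33eb4d82ae4f4a2e4e48994bf5ef8e5fd4dd57967b1b35cdbda009d762314d5c86f62a698b0b7f97c319dc25d874ad24aae4e89e74b42bc4f768764a073304d672b822cd89884caaf1729a3345b5e28f192ed0ede518ce22de201ea6dd4a74cec4f200381673f) i1)) (pk61d (nat_lit 6) 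
    (nat_lit 0xefae78df6d74cf2c70beeb6caeaa689e69648e28607de75c6da6585c0) i1))) (nat_lit 0) (nat_lit 38) List.nil))) : List ℤ × Sm1.Op)
    = ?xq9028 → (List ℤ × Sm1.Op)) ?hq9028; (case hq9028 => (set_option maxRecDepth 1000000 in conv => lhs; reduce)); intro _; exact ?xq9028 : List ℤ × Sm1.Op)
noncomputable def q73 : List ℤ × Sm1.Op :=
  (by
  refine (?fq9029 : ((_root_.Prod.mk (pk61l (fun i1 => (pk61z (pk61d (nat_lit 20) 
    (nat_lit 0x20000200002000010000100001000040000200006000070000200006000060000800032000060000d00009000890003600089a0b89) i1))) (nat_lit 0) (nat_lit 22) List.nil) (_root_.Cfsg.Agent.TAB.Sm1.Op.lin (pk61l (fun i1 => (_root_.Prod.mk (pk61z (pk61d (nat_lit 154) 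
    (nat_lit 0x400000000000000000000000000000000007bc600000000000000000000000000000002f2cce000000000000000000000000000000000000f79000000000000000000000000000007aa03551c240000000000000000000000000115bf95218882000000000000000000000000aac14b04705df5000000000000000000000001cfc440d70182aa3000000000000000000000117cf3eaabc247298c0000000000000252da9c16145ec0c9ff9b2820000000000007e2b997916052b5082da0a3ff4a000000000f33e23f6255c7e03403a271c1781180000002f2e4d619be2987e833a90ced94605f8c000b34715f579f99b129430bd2b10cb68bfa5a02611e9a2057414274c0fab0f88fe2679a919d2e7eb1bdbee88a0629848830dfd822d7a5894f70b6fa45940f9b67966805cd517ee80ffaad29a82dbe916503e6d9e59a0173545fba03feab4a6a17c5fed658c87dd3814be0016248a1fec01cb909067832eaaf24709f8d52ffcd06c9e1a189cf927f635c080e90ac238dd8761b7c09f4e81862ec47084aa6efe0f22098622114062547f6ebb9852f416ff00bc030bac7ec9f75d10cb8e997fb9909018056cc76e1f67cf2f8b5c291b951611c6aa170570b11fdd6961d2d848deaa8427ae05ebaf47a7b04a38676f3f0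497f06455c52e7acbe97f4113bf685b1c58021befa54eddec8d78158bdb34066ed1b19a59b868413d8abc1879f6ea81d0ec18a7fb1e7753d651981932d5ed160ba3b7c3c00f546860c9f66690b7a0289d45a5a1a0234671744f9bfbf9b04896c70e839f1d2b29be903ea9b0f0bbfc938eb4846a49d4faccf074dc7d378f6e0180bcae15e64d6808f566314d16d45b848f2c0a2dfa06deb17e245008c449540e46dfc30ed55009d710bef091bffe7484b3c558f7abcd12af3474a95f0e87158062bda575da379eda6b2d485f72b46d637ef3089630c5a72d62041eb7fae83eade39cfadefcd1a9f25eae6f9a8bebc3e7b8208) i1)) (pk61d (nat_lit 6) 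
    (nat_lit 0xefae78df6d74cf2c70beeb6caeaa689e69648e28607de75c6da6585c0) i1))) (nat_lit 0) (nat_lit 38) List.nil))) : List ℤ × Sm1.Op)
    = ?xq9029 → (List ℤ × Sm1.Op)) ?hq9029; (case hq9029 => (set_option maxRecDepth 1000000 in conv => lhs; reduce)); intro _; exact ?xq9029 : List ℤ × Sm1.Op)
noncomputable def q74 : List ℤ × Sm1.Op :=
  (by
  refine (?fq9030 : ((_root_.Prod.mk (pk61l (fun i1 => (pk61z (pk61d (nat_lit 20) 
    (nat_lit 0x10000600001000000000100002000010000500000000010000100001000060000c0001a000080000100001000a1000080027eba7be) i1))) (nat_lit 0) (nat_lit 22) List.nil) (_root_.Cfsg.Agent.TAB.Sm1.Op.lin (pk61l (fun i1 => (_root_.Prod.mk (pk61z (pk61d (nat_lit 167) 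
    (nat_lit 0x8000000000000000000000000000000000000024a2800000000000000000000000000000000011b57ccc000000000000000000000000000000035ff26a0e1400000000000000000000000000000000008dae30400000000000000000000000000002316e813df5e0d8000000000000000000000000027bd2cb89f5529ec000000000000000000000000c3726181d89a1e84e000000000000000000000001096a1685f4e669b1f2c00000000000000000000050115722ec1d4d942d6380000000000000551be5d79d150c7af761402b491800000000000906a3aaf0516e26b6fb02286b10d10c000000008b354e1e8da199679b0f75fbc12ad78b08000000d80375caa716705dfe5641a6502e1ac0e3980019a67561509718ba43e77613a8ee34c3b8e6e6402b93343e2addc16063352ba1073d6e89b8b3507d9a9bee89459e9d77ad8c4405f7fc78837823be1eae4345bf4816229130ed0ce7fcb9bb732c540876a7f5068b7e902c452261da19cff97376e658a810ed4fea1b360cf997bd96b386e6ce9919611567715c110eec52a491a78ad45860f5733505329f2fbe8c5c2f4eccb6f6213382eaa89496a03ab15f6be5d260bcf3ff98a29b99ff750f913fd322aa80df1a4e077d6a156653616c45a149adf70babe54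d84b899ce07811632e385277137453f6a2e1f3ae256452dc7ce16f8821af5869669aed6f72bcb915a25ff96315a50d86c8fc0f4918621dd0c60a58d6167c6edfabb29eb76f506516013b9f29125cb60a27ed2356a17b86dd78519db697203ae7a31ed0df517d72410bcb31c64c45c2741ad4070e2db8ec468d9df2655bdaf325ae74e3bfad25332317c7c363f679bbbfd045d1e60334eac8617beddd4ef31e4d92c1ed607921561348dbab1f753acbedfc89c5cca7dda55c2e431f47d5f877b9c676c6c5ade006e17c32fb777a0ff2c147846d64e30bb0a88fd03174d9e81036b8580a416442b4628508d5bf9ae9ddb00b4354a69c7aea9dade4ff67df0fd9f40efaabcbe42c40073e0e9cf3b4c4acdd3b25b9e0b5eb46facfe0d2a7c422d84a6fea4877ffa1447a6aa5565e769f690cb6e5cccf61b8689d11ba88fe3c466ba7b69b40) i1)) (pk61d (nat_lit 6) 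
    (nat_lit 0x3cefae78df6d74cf2c70beeb6caeaa689e69648e28607de75c6da6585c0) i1))) (nat_lit 0) (nat_lit 39) List.nil))) : List ℤ × Sm1.Op)
    = ?xq9030 → (List ℤ × Sm1.Op)) ?hq9030; (case hq9030 => (set_option maxRecDepth 1000000 in conv => lhs; reduce)); intro _; exact ?xq9030 : List ℤ × Sm1.Op)
noncomputable def q75 : List ℤ × Sm1.Op :=
  (by
  refine (?fq9031 : ((_root_.Prod.mk (pk61l (fun i1 => (pk61z (pk61d (nat_lit 20) 
    (nat_lit 0x40000000000000030000000000000020000000000000040000000000000000000000000000000000f00000000000002000000ab800) i1))) (nat_lit 0) (nat_lit 22) List.nil) (_root_.Cfsg.Agent.TAB.Sm1.Op.lin (pk61l (fun i1 => (_root_.Prod.mk (pk61z (pk61d (nat_lit 114) 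
    (nat_lit 0x40000000000000000000000000122000000000000000000000000b249800000000000000000000001e439300000000000000000000012426ec4000000000000026d17d93142f6340000000000083bc5895a09c7a7be800000000fdf8e5e0502efd95fb680000003143149323da1e6801c16bc000bb2f88aed84d9242e3e16656a027bfcee703c6a22d29e1745969b308bb9ed01d2978f198a4860fc6cf0bf0c80299ac399a2edefd45d66982fc3200a66b0e668bb7bf51759a618d273696a474a78f40745004586096c62987115e88c02a0bf2ac146529b977d3d6d479030bc66c00281744a2a683229319b444498b38f7c8331570f354b53d28d2bfe366e7f5b896732a22a83e3907d104ccd31dea180966e27127637db4d99838c77547fe2194d6579ebe86bad547e979011fe93816d60450c89792f6bcfe3406b775fc1e3927f1ff39ebaf5dee19be6793e3a4158efc3196841404900183c42929fd7f05030ff456f7b4804a3713ffca481fda070202c158fb5a6b21509dae9eb7ebbda1ddc40191b539ed2d4fc29d695e8624278aa0ed5d1184e48694c11aca2a60b00a462ea8b93068f70e0d55a78f6479cebe4210bd714e0e2573f5466377c3b3ce384c047493e230a7890cafe9cdf343081ba94a5805afd2902)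 i1)) (pk61d (nat_lit 6) 
    (nat_lit 0xdf6d74cf2c70beeb6caeaa689e69648e28607de75c6da6585c0) i1))) (nat_lit 0) (nat_lit 34) List.nil))) : List ℤ × Sm1.Op)
    = ?xq9031 → (List ℤ × Sm1.Op)) ?hq9031; (case hq9031 => (set_option maxRecDepth 1000000 in conv => lhs; reduce)); intro _; exact ?xq9031 : List ℤ × Sm1.Op)
noncomputable def q76 : List ℤ × Sm1.Op :=
  (by
  refine (?fq9032 : ((_root_.Prod.mk (pk61l (fun i1 => (pk61z (pk61d (nat_lit 20) 
    (nat_lit 0x1000020000100000000000000000001000060000200001000010000000000000060003e0000a00001000000008000015001ffe9f00) i1))) (nat_lit 0) (nat_lit 22) List.nil) (_root_.Cfsg.Agent.TAB.Sm1.Op.lin (pk61l (fun i1 => (_root_.Prod.mk (pk61z (pk61d (nat_lit 140) 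
    (nat_lit 0x1000000000000000000000000000000030cb0000000000000000000000000000000000300000000000000000000000000007ed77520000000000000000000000000047d305c29000000000000000000000000b0a022a4e770000000000000000000000077ed7bf4f9d20000000000000000000001216de49dbb7e40000000000000099d380df8b4d04db7158f0000000000082820b5f50e1d645e07e3eed000000003ee6bd562db7c102bacfe94346700000030cd8c6f8a6835dc45a778c4d48aa0002e5c3bf8f1930a31b9df252513d2c91502760f8f4c0477d274bfd50d1207834e58dc05f9cf7d41a5bcfe6be46e58510dced9700bd44afd7f52dd7cc1337d090d662b89e690bd44afd7f52dd7cc1337d090d662b89e6918973aa61909d1f87a85d170fcbdefd85ad25579c07ece18ab02c291856937ae01d8f02955eb73ee0b0d6705086ccbbb58f20f064125e5d5f30f882569c97b5c37229824dcf230e15766f3176d8866eacd1ad0d5b768a7325430db017a5f256c183da0c7d5a073f03317d00dcb48198b52f7d521e2fa620aec12c1fac3f4828ea6c69dca04d427d37f9d4f3111d3a4e888ad54d18cbdded020ab830150a01a9dbe70b3825f25e22e938c9c2169623b1980fbdd538c1a7c6b3a77885b937c05e293f6d4eda2dd10516fe366357fe0edcefb164758d0661a3d925076a2426147b3259a85f3e40ae90ddd21d69c4f0ffd9ef60226f3f9018df6cfc99eda78d6f954c4799ce86abd52a1e4690493b6b2f3d7db34c987ded30cca00a2dab70b094f3defc0d00c58cfb55bd2e1e2b083b5e347162b5398c717500c453b9e76a5f65f2cb68025de9e5853ecf4d531df1bdddf65989d97ea11208c0b755c4752e943)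 i1)) (pk61d (nat_lit 6) 
    (nat_lit 0x3ae78df6d74cf2c70beeb6caeaa689e69648e28607de75c6da6585c0) i1))) (nat_lit 0) (nat_lit 37) List.nil))) : List ℤ × Sm1.Op)
    = ?xq9032 → (List ℤ × Sm1.Op)) ?hq9032; (case hq9032 => (set_option maxRecDepth 1000000 in conv => lhs; reduce)); intro _; exact ?xq9032 : List ℤ × Sm1.Op)
noncomputable def q77 : List ℤ × Sm1.Op :=
  (by
  refine (?fq9033 : ((_root_.Prod.mk (pk61l (fun i1 => (pk61z (pk61d (nat_lit 21) 
    (nat_lit 0xc000000000080001000000000000000080000000006000030000080000000000000050001780000c000020001000037800070000df59490) i1))) (nat_lit 0) (nat_lit 22) List.nil) (_root_.Cfsg.Agent.TAB.Sm1.Op.lin (pk61l (fun i1 => (_root_.Prod.mk (pk61z (pk61d (nat_lit 154) 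
    (nat_lit 0x400000000000000000000000000000000007bc800000000000000000000000000000002f2d91400000000000000000000000000000000000f79400000000000000000000000000007aa230d92bc0000000000000000000000000115c412b013ac000000000000000000000000aac40dbee1fbae000000000000000000000001cfcbc04c03d720f000000000000000000000117d3c4c130891cdec0000000000000252e43a17d8e4a685c630741e000000000007e2da3ac0c339afe9ca54e3403e000000000f34212b4765af0998a540cb7f854ac0000002f2f10a7cd579268642d5b5c7f6082194000b349fbf604699945ec0a996f6fe4d3e1edc026128732d215f8f398d217cfd5d3c8abd1c772e7f722d200adda965918971e79a6fa40cc4e9b0b6fd3ae4db0c33d888ebf0878eef26c8b2c8682dbf4eb936c30cf6223afc21e3bbc9b22cb21a17c6613b531ec9dee24b027393e444d97d6cd789069d8d9630221982c4fd82552f21d0e8be78d27f6db25bbc0ead15379c081f5b6d2aaf35576c470970a4dc105edc0d0fe4b365153b964eb2ad2f4233856f8fe3233e1bd508f57a2fba2fd84a8901a59ce7f0c1c685a14859c87abb5769a19501705cff9257cf485ba250ebcbb19e5af4434c547a7cff91035cb707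f7fd6e70b4535e6287afdc113c3dda1d7cce847bfd14c75288506949de1d4066eec518738cc293b320346ce08016c84a0a418a8612ac32893034aa0f23b29a6b64fdb84238f54a7d34b91ab24f5a034dfc3a19c0f9ba188b44fadd3a404cc902d279b20038d0e529febe008f0bfe0f0199d5f4f45504341bf039dae88c2720180c2e6739c02550e2e6bb832cd49df8f42b40a2e242898ef763b4d23e60c94951967e219189009d73978f4898800fc7d33c7df5a77e62bc84474ab41e69a0c280fd0191ceb7114489a2ae0d972b648223dd227b6e06f3a11941b9b09d5b913ade45ae864ea73fa03d166738d5944371f06c46) i1)) (pk61d (nat_lit 6) 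
    (nat_lit 0xefae78df6d74cf2c70beeb6caeaa689e69648e28607de75c6da6585c0) i1))) (nat_lit 0) (nat_lit 38) List.nil))) : List ℤ × Sm1.Op)
    = ?xq9033 → (List ℤ × Sm1.Op)) ?hq9033; (case hq9033 => (set_option maxRecDepth 1000000 in conv => lhs; reduce)); intro _; exact ?xq9033 : List ℤ × Sm1.Op)
noncomputable def q78 : List ℤ × Sm1.Op :=
  (by
  refine (?fq9034 : ((_root_.Prod.mk (pk61l (fun i1 => (pk61z (pk61d (nat_lit 18) 
    (nat_lit 0x400030000000030000000040000400030002000010000000000002000060008c0008000400030001400008001426210) i1))) (nat_lit 0) (nat_lit 22) List.nil) (_root_.Cfsg.Agent.TAB.Sm1.Op.lin (pk61l (fun i1 => (_root_.Prod.mk (pk61z (pk61d (nat_lit 155) 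
    (nat_lit 0x180000000000000000000000000000000000f79200000000000000000000000000000002f2df2dc00000000000000000000000000000000007bcb00000000000000000000000000001ea8cba49eb8000000000000000000000000022b8ca2bf98bc000000000000000000000000aac56f0da0551f000000000000000000000000e7e7bfef992d234c00000000000000000000045f581ed2c46b7621800000000000004a5d211cc962a30a153a3ca44000000000007e2ea8bad49a58b4325aa4c41e580000000079a204ff7f7a370006a6bf0b311f060000000bcbdc91b97cbb5370e7eb83ddf962b0980016696ddce2c5b1914fb3342b11ad604f65c802612d5f7fe0b4fffbdaf22b189bc1b1373e05573fe9306fb058caec2f8b8f346198c6fb29ee3c2dbfad5f6f402a4b64dfa7821ae598ab24d39505b7f5abede805496c9bf4f0435cb315649a72a17c6926bcc418dd92af6fcda904181bed05042c483581d140474121f1e791b46e030be5bb3ffcc9fdcb753d703cc417114e40a6bbde60b3fbdd288e14073b989d25d5bd8a3dd4dcdfd43716e83b2f42954c1fb940cb71576d15d05c03bf2d18f84480dc1f9918e8204fade05ffc2afb108b2a08e85c17fe6cd26004460f15aa4089bf6aa1c29d748f4fbf9fab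e6cf3f44b28904304a4103b0b1510113c6182dd411c8a7dad48ef4890148d00c8c9e03377cd0790300552f05018bf50484d1ad0866862a250bb4785039efd8ffcc337acf047fd445d1ea98f167f3df092d58009f5183cd5a3b36420f44fb6bf1b9bcafc787d8ddd8419cb8718a4cc687860e984facf6bfad45023a7c7012244bc65ba80603180a075e987023879396830875c52b9d65145c72713230b8c1042cf5ba8144f719608ecc3009d74dd520eddb74ec673c5caba2cb69a5bf4a3a5619a45f9e88fa9e09d754591e5fd607b0435cadcd5df8dc3c0bfe3530ca73f706b699e36ad5bc973b6879856f4f158999c2ffe81038ef7002) i1)) (pk61d (nat_lit 6) 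
    (nat_lit 0xefae78df6d74cf2c70beeb6caeaa689e69648e28607de75c6da6585c0) i1))) (nat_lit 0) (nat_lit 38) List.nil))) : List ℤ × Sm1.Op)
    = ?xq9034 → (List ℤ × Sm1.Op)) ?hq9034; (case hq9034 => (set_option maxRecDepth 1000000 in conv => lhs; reduce)); intro _; exact ?xq9034 : List ℤ × Sm1.Op)
noncomputable def q79 : List ℤ × Sm1.Op :=
  (by
  refine (?fq9035 : ((_root_.Prod.mk (pk61l (fun i1 => (pk61z (pk61d (nat_lit 14) 
    (nat_lit 0x20000000000400200200010014000001c0010018005005800600200010078001037b29e) i1))) (nat_lit 0) (nat_lit 22) List.nil) (_root_.Cfsg.Agent.TAB.Sm1.Op.lin (pk61l (fun i1 => (_root_.Prod.mk (pk61z (pk61d (nat_lit 140) 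
    (nat_lit 0x1000000000000000000000000000000030cb0000000000000000000000000000000000500000000000000000000000000007ed8a080000000000000000000000000047d3afa73000000000000000000000000b0a1c46b99d0000000000000000000000077ee97a02b3e000000000000000000000121709135ceb160000000000000099d4ecb8d5b6475117ec70000000000082834010e6acb02df5606485000000003ee7521e60a5c6fe8d0155461db00000030cdffded538a6a676f4753042e2e0002e5ca9a12a33b13c2f806e49abd0fe4702761561984d1adfec180283cb545e6c009c06163fe65c5e4b74709420e3b5883f90800bd466f8644b93d6e57f49da9f0ff4840df0bd466f8644b93d6e57f49da9f0ff4840df189774d05af217eadd32e3375f8369b71d52557f45b8025f1871518650f18ca966ec9e29564d3999a891458d79d0c78cfb6f2dac0125e88d1cee556be8b326f96cc9095d0a2630e1cb050eec81e18331c2142b2fa6e1f39254365d30bc4a74dc38f35360f200631d7d17d0461e6cd65773c3f0c78fffe5f6ebbde1fac8a32caf39a9c3f3191d3bb78f5c7b4d11d3cf13081d4ade6cea60c83990704c34001a9dfd656a0d3b4f8ac6849fbeed46ac69198138307d53e43c995c6e25b558e08aa573f6de4e0ad048a58151299aa95dea67bf0a475979284ef328c6110ec38bf8b6eaa4b593e4141d048ff625ffd0241b0f64bdb1539f018dfa7d1a08e5354cfe57ab7e823ee72672a1eaa2fdcf35fce9b69d4e98169a9996d600a2dc383f177747037090bf7dff712ead21e2b4f96d7ae4e5ed69a7b169304f8a371a76a70f03710d8e460cef33bccacf464e6a9bddfb772652e3c5136f24cbd9acc2c92e8d)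 i1)) (pk61d (nat_lit 6) 
    (nat_lit 0x3ae78df6d74cf2c70beeb6caeaa689e69648e28607de75c6da6585c0) i1))) (nat_lit 0) (nat_lit 37) List.nil))) : List ℤ × Sm1.Op)
    = ?xq9035 → (List ℤ × Sm1.Op)) ?hq9035; (case hq9035 => (set_option maxRecDepth 1000000 in conv => lhs; reduce)); intro _; exact ?xq9035 : List ℤ × Sm1.Op)
def q80 : List ℤ × Sm1.Op := ([-58653, -5789, -171, -525, 51, -28, -11, 0, 0, -1, -1, -4, -1, -3, 0, -1, 1, -3, 0,
    0, 0, -1], .del 64 2)
def q81 : List ℤ × Sm1.Op := ([14260280, 7896, 230, 0, -16, 0, -6, -92, -1, -4, 4, -4, 1, 0, 0, 0, 0, 0, 1, 0, 0,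
    1], .coad 69 2)
def q82 : List ℤ × Sm1.Op := ([-2215818, 11766, 18, 510, -2, -28, -6, 11, -3, 6, 2, -4, 0, 6, -1, 8, 0, -2, 0, 0,
    -1, 0], .mul 79 64)
noncomputable def q83 : List ℤ × Sm1.Op :=
  (by
  refine (?fq9036 : ((_root_.Prod.mk (pk61l (fun i1 => (pk61z (pk61d (nat_lit 17) 
    (nat_lit 0x4000000000000000020001000080000000400020000000080004000000000000800200005002280048008bca3a) i1))) (nat_lit 0) (nat_lit 22) List.nil) (_root_.Cfsg.Agent.TAB.Sm1.Op.lin (pk61l (fun i1 => (_root_.Prod.mk (pk61z (pk61d (nat_lit 4) 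
    (nat_lit 0x14c522228a5313b1) i1)) (pk61d (nat_lit 7) 
    (nat_lit 0xa13a64a911e345850603f7cf4b80) i1))) (nat_lit 0) (nat_lit 16) List.nil))) : List ℤ × Sm1.Op)
    = ?xq9036 → (List ℤ × Sm1.Op)) ?hq9036; (case hq9036 => (set_option maxRecDepth 1000000 in conv => lhs; reduce)); intro _; exact ?xq9036 : List ℤ × Sm1.Op)
noncomputable def q84 : List ℤ × Sm1.Op :=
  (by
  refine (?fq9037 : ((_root_.Prod.mk (pk61l (fun i1 => (pk61z (pk61d (nat_lit 18) 
    (nat_lit 0x10000800020000400000000400000000000010000400000000000010004000060011800010011b91c6) i1))) (nat_lit 0) (nat_lit 22) List.nil) (_root_.Cfsg.Agent.TAB.Sm1.Op.lin (pk61l (fun i1 => (_root_.Prod.mk (pk61z (pk61d (nat_lit 4) 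
    (nat_lit 0x23b61111796624c2) i1)) (pk61d (nat_lit 7) 
    (nat_lit 0xa13a64a911e345850603f7cf4b80) i1))) (nat_lit 0) (nat_lit 16) List.nil))) : List ℤ × Sm1.Op)
    = ?xq9037 → (List ℤ × Sm1.Op)) ?hq9037; (case hq9037 => (set_option maxRecDepth 1000000 in conv => lhs; reduce)); intro _; exact ?xq9037 : List ℤ × Sm1.Op)
noncomputable def q85 : List ℤ × Sm1.Op :=
  (by
  refine (?fq9038 : ((_root_.Prod.mk (pk61l (fun i1 => (pk61z (pk61d (nat_lit 17) 
    (nat_lit 0x10000800000004000100010000800020000000100004000c000200010000400040001000080044011dc78e) i1))) (nat_lit 0) (nat_lit 22) List.nil) (_root_.Cfsg.Agent.TAB.Sm1.Op.lin (pk61l (fun i1 => (_root_.Prod.mk (pk61z (pk61d (nat_lit 4) 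
    (nat_lit 0x14c522228a3313b1) i1)) (pk61d (nat_lit 7) 
    (nat_lit 0xa13a64a911e345850603f7cf4b80) i1))) (nat_lit 0) (nat_lit 16) List.nil))) : List ℤ × Sm1.Op)
    = ?xq9038 → (List ℤ × Sm1.Op)) ?hq9038; (case hq9038 => (set_option maxRecDepth 1000000 in conv => lhs; reduce)); intro _; exact ?xq9038 : List ℤ × Sm1.Op)
noncomputable def q86 : List ℤ × Sm1.Op :=
  (by
  refine (?fq9039 : ((_root_.Prod.mk (pk61l (fun i1 => (pk61z (pk61d (nat_lit 16) 
    (nat_lit 0x2000100000003000100000000000600010001000c000600000006004600090096fd16) i1))) (nat_lit 0) (nat_lit 22) List.nil) (_root_.Cfsg.Agent.TAB.Sm1.Op.lin (pk61l (fun i1 => (_root_.Prod.mk (pk61z (pk61d (nat_lit 7) 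
    (nat_lit 0x818a2679498787448f0a8c29f4365202207a60a) i1)) (pk61d (nat_lit 7) 
    (nat_lit 0x14a8d09d3664b95264478d16243850603f7cf4b80) i1))) (nat_lit 0) (nat_lit 23) List.nil))) : List ℤ × Sm1.Op)
    = ?xq9039 → (List ℤ × Sm1.Op)) ?hq9039; (case hq9039 => (set_option maxRecDepth 1000000 in conv => lhs; reduce)); intro _; exact ?xq9039 : List ℤ × Sm1.Op)
noncomputable def q87 : List ℤ × Sm1.Op :=
  (by
  refine (?fq9040 : ((_root_.Prod.mk (pk61l (fun i1 => (pk61z (pk61d (nat_lit 16) 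
    (nat_lit 0x1000200000003000100000000000100060001000c000600000006004600090096fd16) i1))) (nat_lit 0) (nat_lit 22) List.nil) (_root_.Cfsg.Agent.TAB.Sm1.Op.lin (pk61l (fun i1 => (_root_.Prod.mk (pk61z (pk61d (nat_lit 7) 
    (nat_lit 0x81881e78e986c7438d068429f3334f011c6a008) i1)) (pk61d (nat_lit 7) 
    (nat_lit 0x14a8d09d3664b95264478d16243850603f7cf4b80) i1))) (nat_lit 0) (nat_lit 23) List.nil))) : List ℤ × Sm1.Op)
    = ?xq9040 → (List ℤ × Sm1.Op)) ?hq9040; (case hq9040 => (set_option maxRecDepth 1000000 in conv => lhs; reduce)); intro _; exact ?xq9040 : List ℤ × Sm1.Op)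
noncomputable def q88 : List ℤ × Sm1.Op :=
  (by
  refine (?fq9041 : ((_root_.Prod.mk (pk61l (fun i1 => (pk61z (pk61d (nat_lit 18) 
    (nat_lit 0x20000400000000000000000400020000c000000004000400010000000034000300004001c0048c001c0048ec4a3) i1))) (nat_lit 0) (nat_lit 22) List.nil) (_root_.Cfsg.Agent.TAB.Sm1.Op.lin (pk61l (fun i1 => (_root_.Prod.mk (pk61z (pk61d (nat_lit 4) 
    (nat_lit 0x23b61111596424c2) i1)) (pk61d (nat_lit 7) 
    (nat_lit 0xa13a64a911e345850603f7cf4b80) i1))) (nat_lit 0) (nat_lit 16) List.nil))) : List ℤ × Sm1.Op)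
    = ?xq9041 → (List ℤ × Sm1.Op)) ?hq9041; (case hq9041 => (set_option maxRecDepth 1000000 in conv => lhs; reduce)); intro _; exact ?xq9041 : List ℤ × Sm1.Op)
noncomputable def q89 : List ℤ × Sm1.Op :=
  (by
  refine (?fq9042 : ((_root_.Prod.mk (pk61l (fun i1 => (pk61z (pk61d (nat_lit 17) 
    (nat_lit 0x40000000180008000000000000000000006000200000000c000600000000000100000001400b5800500117c78b) i1))) (nat_lit 0) (nat_lit 22) List.nil) (_root_.Cfsg.Agent.TAB.Sm1.Op.lin (pk61l (fun i1 => (_root_.Prod.mk (pk61z (pk61d (nat_lit 7) 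
    (nat_lit 0x81861678898607428b027c39f230cc071859a06) i1)) (pk61d (nat_lit 7) 
    (nat_lit 0x14a8d09d3664b95264478d16243850603f7cf4b80) i1))) (nat_lit 0) (nat_lit 23) List.nil))) : List ℤ × Sm1.Op)
    = ?xq9042 → (List ℤ × Sm1.Op)) ?hq9042; (case hq9042 => (set_option maxRecDepth 1000000 in conv => lhs; reduce)); intro _; exact ?xq9042 : List ℤ × Sm1.Op)
def q90 : List ℤ × Sm1.Op := ([213466, 26, 31, 26, -6, 1, -1, 22, 1, -2, -2, 1, 0, -1, -2, 1, 0, 0, 1, 1, -2, 0],
    .lin [(1, 0), (6, 23), (2, 61), (1, 62), (3, 63), (3, 64), (-5, 65), (-4, 66), (-1, 69), (-1, 71), (-1, 72), (3,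
    74), (-6, 76), (-2, 78), (1, 80)])
noncomputable def q91 : List ℤ × Sm1.Op :=
  (by
  refine (?fq9044 : ((_root_.Prod.mk (pk61l (fun i1 => (pk61z (pk61d (nat_lit 18) 
    (nat_lit 0x400000000000010000000000000c00040001000010001000040001000000006c00040000c00140022c002400013c1bb) i1))) (nat_lit 0) (nat_lit 22) List.nil) (_root_.Cfsg.Agent.TAB.Sm1.Op.lin (pk61l (fun i1 => (_root_.Prod.mk (pk61z (pk61d (nat_lit 6) 
    (nat_lit 0x4214a3ce2db4021141923a83c50cb845) i1)) (pk61d (nat_lit 7) 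
    (nat_lit 0x2951a13a6cc972a4c88f16243850603f7cf4b80) i1))) (nat_lit 0) (nat_lit 22) List.nil))) : List ℤ × Sm1.Op)
    = ?xq9044 → (List ℤ × Sm1.Op)) ?hq9044; (case hq9044 => (set_option maxRecDepth 1000000 in conv => lhs; reduce)); intro _; exact ?xq9044 : List ℤ × Sm1.Op)
noncomputable def q92 : List ℤ × Sm1.Op :=
  (by
  refine (?fq9045 : ((_root_.Prod.mk (pk61l (fun i1 => (pk61z (pk61d (nat_lit 17) 
    (nat_lit 0x20000000100004000000000003000100008000100008000000000003000180020000c000f00380004002e1c78f) i1))) (nat_lit 0) (nat_lit 22) List.nil) (_root_.Cfsg.Agent.TAB.Sm1.Op.lin (pk61l (fun i1 => (_root_.Prod.mk (pk61z (pk61d (nat_lit 6) 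
    (nat_lit 0x20ca35c2df38830440c5304c22d19c3) i1)) (pk61d (nat_lit 7) 
    (nat_lit 0x51a13a6cc972a4c88f1a2c3850603f7cf4b80) i1))) (nat_lit 0) (nat_lit 21) List.nil))) : List ℤ × Sm1.Op)
    = ?xq9045 → (List ℤ × Sm1.Op)) ?hq9045; (case hq9045 => (set_option maxRecDepth 1000000 in conv => lhs; reduce)); intro _; exact ?xq9045 : List ℤ × Sm1.Op)
noncomputable def q93 : List ℤ × Sm1.Op :=
  (by
  refine (?fq9046 : ((_root_.Prod.mk (pk61l (fun i1 => (pk61z (pk61d (nat_lit 18) 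
    (nat_lit 0x200000000000000000000007000c000070000000080045c002700463f458) i1))) (nat_lit 0) (nat_lit 22) List.nil) (_root_.Cfsg.Agent.TAB.Sm1.Op.lin (pk61l (fun i1 => (_root_.Prod.mk (pk61z (pk61d (nat_lit 7) 
    (nat_lit 0x81881e78e986c7438f068429f333cf031c6a008) i1)) (pk61d (nat_lit 7) 
    (nat_lit 0x14a8d09d3664b95264478d16243850603f7cf4b80) i1))) (nat_lit 0) (nat_lit 23) List.nil))) : List ℤ × Sm1.Op)
    = ?xq9046 → (List ℤ × Sm1.Op)) ?hq9046; (case hq9046 => (set_option maxRecDepth 1000000 in conv => lhs; reduce)); intro _; exact ?xq9046 : List ℤ × Sm1.Op)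
noncomputable def q94 : List ℤ × Sm1.Op :=
  (by
  refine (?fq9047 : ((_root_.Prod.mk (pk61l (fun i1 => (pk61z (pk61d (nat_lit 18) 
    (nat_lit 0x1000020000800010000000000001800010000000050000400000000000080013800000001800170012000100011eb807) i1))) (nat_lit 0) (nat_lit 22) List.nil) (_root_.Cfsg.Agent.TAB.Sm1.Op.lin (pk61l (fun i1 => (_root_.Prod.mk (pk61z (pk61d (nat_lit 7) 
    (nat_lit 0x430724ad12392b86160cc042e3db12922a8e887) i1)) (pk61d (nat_lit 7) 
    (nat_lit 0x14a8d09d3664b95264478d16243850603f7cf4b80) i1))) (nat_lit 0) (nat_lit 23) List.nil))) : List ℤ × Sm1.Op)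
    = ?xq9047 → (List ℤ × Sm1.Op)) ?hq9047; (case hq9047 => (set_option maxRecDepth 1000000 in conv => lhs; reduce)); intro _; exact ?xq9047 : List ℤ × Sm1.Op)
noncomputable def q95 : List ℤ × Sm1.Op :=
  (by
  refine (?fq9048 : ((_root_.Prod.mk (pk61l (fun i1 => (pk61z (pk61d (nat_lit 20) 
    (nat_lit 0x30000200004000010000000000000040000500002000030000400000000000000a0000a0000200004000170017700022001588e318) i1))) (nat_lit 0) (nat_lit 22) List.nil) (_root_.Cfsg.Agent.TAB.Sm1.Op.lin (pk61l (fun i1 => (_root_.Prod.mk (pk61z (pk61d (nat_lit 7) 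
    (nat_lit 0x42072074f17667840e088831e3538e821a65f87) i1)) (pk61d (nat_lit 7) 
    (nat_lit 0x14a8d09d3664b95264478d16243850603f7cf4b80) i1))) (nat_lit 0) (nat_lit 23) List.nil))) : List ℤ × Sm1.Op)
    = ?xq9048 → (List ℤ × Sm1.Op)) ?hq9048; (case hq9048 => (set_option maxRecDepth 1000000 in conv => lhs; reduce)); intro _; exact ?xq9048 : List ℤ × Sm1.Op)
def q96 : List ℤ × Sm1.Op := ([420792, -328, -3, -8, -8, 2, 5, 29, 1, 0, 0, 2, -2, 1, 1, 2, 0, 0, -1, 2, -1, -2],
    .lin [(-1, 67), (1, 76)])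
noncomputable def q97 : List ℤ × Sm1.Op :=
  (by
  refine (?fq9049 : ((_root_.Prod.mk (pk61l (fun i1 => (pk61z (pk61d (nat_lit 17) 
    (nat_lit 0x30000000000000000000020000c00100000000180000000000080009800000008001000280003c011f94f0) i1))) (nat_lit 0) (nat_lit 22) List.nil) (_root_.Cfsg.Agent.TAB.Sm1.Op.lin (pk61l (fun i1 => (_root_.Prod.mk (pk61z (pk61d (nat_lit 6) 
    (nat_lit 0x20cc35c2df38830640e5304c22d1a43) i1)) (pk61d (nat_lit 7) 
    (nat_lit 0x51a13a6cc972a4c88f1a2c3850603f7cf4b80) i1))) (nat_lit 0) (nat_lit 21) List.nil))) : List ℤ × Sm1.Op)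
    = ?xq9049 → (List ℤ × Sm1.Op)) ?hq9049; (case hq9049 => (set_option maxRecDepth 1000000 in conv => lhs; reduce)); intro _; exact ?xq9049 : List ℤ × Sm1.Op)
def q98 : List ℤ × Sm1.Op := ([1122596122029584511489228, 12093228, -6552, -12093228, 49764, -17867, 0, -18044832,
    -204, 0, 0, -7, 48, 0, 0, -47, 0, 0, 0, 7, 0, -6], .del 94 5)
noncomputable def q99 : List ℤ × Sm1.Op :=
  (by
  refine (?fq9050 : ((_root_.Prod.mk (pk61l (fun i1 => (pk61z (pk61d (nat_lit 18) 
    (nat_lit 0x400020000000000000400000000c0002000040000000000000000000003000040010001bc001c001be9890) i1))) (nat_lit 0) (nat_lit 22) List.nil) (_root_.Cfsg.Agent.TAB.Sm1.Op.lin (pk61l (fun i1 => (_root_.Prod.mk (pk61z (pk61d (nat_lit 60) 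
    (nat_lit 0x11c0985f72e4f4f2fd3d3e23f39e2e0b7256f3a007ea78e0550c86bd3cffd4617cee9f336f521cf10e6a82552f0a75a78250c9842940e66e9fb8395f49b1be942d21a57f2a18cf268ec54ba230be774f99801e230be774f99801e3f156d6c27ebd427e894bc3fc43c163f74253e3eb1e9ae0550c86bd3cfe8bdfd71023af6a280e788735412137eec2c06c9950082e3f156d6c27e75103f156d6c27ebd42000046e66a55794) i1)) (pk61d (nat_lit 7) 
    (nat_lit 0x18b0e0bf7aedcb76acd8af5aad4a7365c886f9e80) i1))) (nat_lit 0) (nat_lit 23) List.nil))) : List ℤ × Sm1.Op)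
    = ?xq9050 → (List ℤ × Sm1.Op)) ?hq9050; (case hq9050 => (set_option maxRecDepth 1000000 in conv => lhs; reduce)); intro _; exact ?xq9050 : List ℤ × Sm1.Op)
noncomputable def q100 : List ℤ × Sm1.Op :=
  (by
  refine (?fq9051 : ((_root_.Prod.mk (pk61l (fun i1 => (pk61z (pk61d (nat_lit 19) 
    (nat_lit 0x100000000080000000000000000004000000002000000000c0001800000001c0000000000000b0016800000005a55d34) i1))) (nat_lit 0) (nat_lit 22) List.nil) (_root_.Cfsg.Agent.TAB.Sm1.Op.lin (pk61l (fun i1 => (_root_.Prod.mk (pk61z (pk61d (nat_lit 60) 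
    (nat_lit 0x11c0985f72e4f4f2fd3d3e23f39e2e0b7256f3a007ea78e0550c86bd3cffd4617cee9f336f521cf10e6a82552f0a75a78250c9842940e66e9fb8395f49b1be942d21a57f2a18cf268ec54b8230be774f99801e230be774f99801e3f156d6c27ebd427e894bc3fc43c163f74253e3eb1e9ae0550c86bd3cfe8bdfd71023af6a280e788735412137eec2c06c9950082e3f156d6c27e75103f156d6c27ebd42000046e66a55794) i1)) (pk61d (nat_lit 7) 
    (nat_lit 0x18b0e0bf7aedcb76acd8af5aad4a7365c886f9e80) i1))) (nat_lit 0) (nat_lit 23) List.nil))) : List ℤ × Sm1.Op)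
    = ?xq9051 → (List ℤ × Sm1.Op)) ?hq9051; (case hq9051 => (set_option maxRecDepth 1000000 in conv => lhs; reduce)); intro _; exact ?xq9051 : List ℤ × Sm1.Op)
noncomputable def q101 : List ℤ × Sm1.Op :=
  (by
  refine (?fq9052 : ((_root_.Prod.mk (pk61l (fun i1 => (pk61z (pk61d (nat_lit 19) 
    (nat_lit 0x80000000040000000000000000002000000000000000000200010000200000000000001c000080003001f800020000e4601c) i1))) (nat_lit 0) (nat_lit 22) List.nil) (_root_.Cfsg.Agent.TAB.Sm1.Op.lin (pk61l (fun i1 => (_root_.Prod.mk (pk61z (pk61d (nat_lit 60) 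
    (nat_lit 0x11c0985f72e4f4f2fd3d3e23f39e2e0b7256f3a007ea78e0550c86bd3cffd4617cee9f336f521cf10e6a82552f0a75a78250c9842940e66e9fb8395f49b1be942d21a5812a18cf268ec54ba230be774f99801e230be774f99801e3f156d6c27ebd427e894bc3fc43c163f74253e3eb1e9ae0550c86bd3cfe8bdfd71023af6a280e788735412137eec2c06c9950082e3f156d6c27e75103f156d6c27ebd42000046e66a55794) i1)) (pk61d (nat_lit 7) 
    (nat_lit 0x18b0e0bf7aedcb76acd8af5aad4a7365c886f9e80) i1))) (nat_lit 0) (nat_lit 23) List.nil))) : List ℤ × Sm1.Op)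
    = ?xq9052 → (List ℤ × Sm1.Op)) ?hq9052; (case hq9052 => (set_option maxRecDepth 1000000 in conv => lhs; reduce)); intro _; exact ?xq9052 : List ℤ × Sm1.Op)
noncomputable def q102 : List ℤ × Sm1.Op :=
  (by
  refine (?fq9053 : ((_root_.Prod.mk (pk61l (fun i1 => (pk61z (pk61d (nat_lit 17) 
    (nat_lit 0x1000100000000000000001000040002000100010000000000002000f0000400040000003f800f800ff2680) i1))) (nat_lit 0) (nat_lit 22) List.nil) (_root_.Cfsg.Agent.TAB.Sm1.Op.lin (pk61l (fun i1 => (_root_.Prod.mk (pk61z (pk61d (nat_lit 60) 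
    (nat_lit 0x21c0985f72e4f4f1fd3d3e23f39e2dfb7256f3a007ea77e0550c86bd3cffe4617cee9f336f511cf10e6a82552efa75a78250c9842a40e66e9fb8395f19b1be942d21a5802a18cf268ec54b7230be774f99801d230be774f99801d3f156d6c27ebd417e894bc3fc43c153f74253e3eb1e99e0550c86bd3cfe7bdfd71023af6a270e788735412137dec2c06c9950082d3f156d6c27e750f3f156d6c27ebd41000046e66a55793) i1)) (pk61d (nat_lit 7) 
    (nat_lit 0x18b0e0bf7aedcb76acd8af5aad4a7365c886f9e80) i1))) (nat_lit 0) (nat_lit 23) List.nil))) : List ℤ × Sm1.Op)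
    = ?xq9053 → (List ℤ × Sm1.Op)) ?hq9053; (case hq9053 => (set_option maxRecDepth 1000000 in conv => lhs; reduce)); intro _; exact ?xq9053 : List ℤ × Sm1.Op)
noncomputable def q103 : List ℤ × Sm1.Op :=
  (by
  refine (?fq9054 : ((_root_.Prod.mk (pk61l (fun i1 => (pk61z (pk61d (nat_lit 17) 
    (nat_lit 0x200010000000000000000000018000800080000000200000000000000006800100006000800140009001719b78) i1))) (nat_lit 0) (nat_lit 22) List.nil) (_root_.Cfsg.Agent.TAB.Sm1.Op.lin (pk61l (fun i1 => (_root_.Prod.mk (pk61z (pk61d (nat_lit 60) 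
    (nat_lit 0x11c0985f72e4f4f2fd3d3e23f39e2e0b7256f3a007ea78e0550c86bd3cffd4617cee9f336f521cf10e6a82552f0a75a78250c9842740e66e9fb8395f49b1be942d21a57f2a18cf268ec54b8230be774f99801e230be774f99801e3f156d6c27ebd427e894bc3fc43c163f74253e3eb1e9ae0550c86bd3cfe8bdfd71023af6a280e788735412137eec2c06c9950082e3f156d6c27e75103f156d6c27ebd42000046e66a55794) i1)) (pk61d (nat_lit 7) 
    (nat_lit 0x18b0e0bf7aedcb76acd8af5aad4a7365c886f9e80) i1))) (nat_lit 0) (nat_lit 23) List.nil))) : List ℤ × Sm1.Op)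
    = ?xq9054 → (List ℤ × Sm1.Op)) ?hq9054; (case hq9054 => (set_option maxRecDepth 1000000 in conv => lhs; reduce)); intro _; exact ?xq9054 : List ℤ × Sm1.Op)
noncomputable def q104 : List ℤ × Sm1.Op :=
  (by
  refine (?fq9055 : ((_root_.Prod.mk (pk61l (fun i1 => (pk61z (pk61d (nat_lit 16) 
    (nat_lit 0x1000000000000000000000004000400000000000300000000000300030004000400000000002c0100d100) i1))) (nat_lit 0) (nat_lit 22) List.nil) (_root_.Cfsg.Agent.TAB.Sm1.Op.lin (pk61l (fun i1 => (_root_.Prod.mk (pk61z (pk61d (nat_lit 60) 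
    (nat_lit 0x11c0985f72e4f4f2fd3d3e23f39e2e0b7256f3a007ea78e0550c86bd3cffd4617cee9f336f521cf10e6a82552f2a75a78250c9842940e66e9fb8395f49b1be942d21a57f2a18cf268ec54ba230be774f99801e230be774f99801e3f156d6c27ebd427e894bc3fc43c163f74253e3eb1e9ae0550c86bd3cfe8bdfd71023af6a280e788735412137eec2c06c9950082e3f156d6c27e75103f156d6c27ebd42000046e66a55794) i1)) (pk61d (nat_lit 7) 
    (nat_lit 0x18b0e0bf7aedcb76acd8af5aad4a7365c886f9e80) i1))) (nat_lit 0) (nat_lit 23) List.nil))) : List ℤ × Sm1.Op)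
    = ?xq9055 → (List ℤ × Sm1.Op)) ?hq9055; (case hq9055 => (set_option maxRecDepth 1000000 in conv => lhs; reduce)); intro _; exact ?xq9055 : List ℤ × Sm1.Op)
noncomputable def q105 : List ℤ × Sm1.Op :=
  (by
  refine (?fq9056 : ((_root_.Prod.mk (pk61l (fun i1 => (pk61z (pk61d (nat_lit 15) 
    (nat_lit 0x10002000200000000000000200080010001000200000000006004400080008000010000480405580) i1))) (nat_lit 0) (nat_lit 22) List.nil) (_root_.Cfsg.Agent.TAB.Sm1.Op.lin (pk61l (fun i1 => (_root_.Prod.mk (pk61z (pk61d (nat_lit 61) 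
    (nat_lit 0x10702617dcb93d3c7fa7a7c47e73c5bfb7256f3a007ea77f02a86435e9e7ff1185f3ba7ccdbd4639e21cd504aa5dfa75a78250c9842a2073374fdc1caf966c6fa50b486960054319e4d1d8a971230be774f99801d9185f3ba7ccc00ecfc55b5b09faf506fd129787f88782b3f74253e3eb1e99f02a86435e9e7f3ef7f5c408ebda89e1cf10e6a82426fbec2c06c9950082c9f8ab6b613f3a87cfc55b5b09faf50600008dccd4aaf27) i1)) (pk61d (nat_lit 7) 
    (nat_lit 0x18b0e0bf7aedcb76acd8af5aad4a7365c886f9e80) i1))) (nat_lit 0) (nat_lit 23) List.nil))) : List ℤ × Sm1.Op)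
    = ?xq9056 → (List ℤ × Sm1.Op)) ?hq9056; (case hq9056 => (set_option maxRecDepth 1000000 in conv => lhs; reduce)); intro _; exact ?xq9056 : List ℤ × Sm1.Op)
noncomputable def q106 : List ℤ × Sm1.Op :=
  (by
  refine (?fq9057 : ((_root_.Prod.mk (pk61l (fun i1 => (pk61z (pk61d (nat_lit 16) 
    (nat_lit 0x1000400030000000000000004000300040000000400000000000300030003000400000100002c00ffd100) i1))) (nat_lit 0) (nat_lit 22) List.nil) (_root_.Cfsg.Agent.TAB.Sm1.Op.lin (pk61l (fun i1 => (_root_.Prod.mk (pk61z (pk61d (nat_lit 60) 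
    (nat_lit 0x11c0985f72e4f4f2fd3d3e23f39e2e0b7256f3a007ea78e0550c86bd3cffd4617cee9f336f521cf10e6a82552f0a75a78250c9842940e66e9fb8395f49b1be942d21a57f2a18cf268ec54ba230be774f99801e230be774f99801e3f156d6c27ebd427e894bc3fc43c163f74253e3eb1e9ae0550c86bd3cfe8bdfd71023af6a280e7887354121380ec2c06c9950082e3f156d6c27e75103f156d6c27ebd42000046e66a55794) i1)) (pk61d (nat_lit 7) 
    (nat_lit 0x18b0e0bf7aedcb76acd8af5aad4a7365c886f9e80) i1))) (nat_lit 0) (nat_lit 23) List.nil))) : List ℤ × Sm1.Op)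
    = ?xq9057 → (List ℤ × Sm1.Op)) ?hq9057; (case hq9057 => (set_option maxRecDepth 1000000 in conv => lhs; reduce)); intro _; exact ?xq9057 : List ℤ × Sm1.Op)
noncomputable def q107 : List ℤ × Sm1.Op :=
  (by
  refine (?fq9058 : ((_root_.Prod.mk (pk61l (fun i1 => (pk61z (pk61d (nat_lit 20) 
    (nat_lit 0x30000400000000000000000000000000000300000000000000000000000000000800013000000000000007001670000000168a5528) i1))) (nat_lit 0) (nat_lit 22) List.nil) (_root_.Cfsg.Agent.TAB.Sm1.Op.lin (pk61l (fun i1 => (_root_.Prod.mk (pk61z (pk61d (nat_lit 61) 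
    (nat_lit 0xc702617dcb93d3c9fa7a7c47e73c5c0b7256f3a007ea79702a86435e9e7fed185f3ba7ccdbd4839e21cd504aa5e0a75a78250c98429a073374fdc1caf9a6c6fa50b48695fe54319e4d1d8a972230be774f99801e1185f3ba7ccc00f0fc55b5b09faf508fd129787f88782c3f74253e3eb1e9a702a86435e9e7f42f7f5c408ebda8a01cf10e6a82426fcec2c06c9950082e1f8ab6b613f3a880fc55b5b09faf50800008dccd4aaf28) i1)) (pk61d (nat_lit 7) 
    (nat_lit 0x18b0e0bf7aedcb76acd8af5aad4a7365c886f9e80) i1))) (nat_lit 0) (nat_lit 23) List.nil))) : List ℤ × Sm1.Op)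
    = ?xq9058 → (List ℤ × Sm1.Op)) ?hq9058; (case hq9058 => (set_option maxRecDepth 1000000 in conv => lhs; reduce)); intro _; exact ?xq9058 : List ℤ × Sm1.Op)
noncomputable def q108 : List ℤ × Sm1.Op :=
  (by
  refine (?fq9059 : ((_root_.Prod.mk (pk61l (fun i1 => (pk61z (pk61d (nat_lit 20) 
    (nat_lit 0x3000000000000000000000000000000000040000000000000000000000000000000001c00008000000000000000000270027fe4980) i1))) (nat_lit 0) (nat_lit 22) List.nil) (_root_.Cfsg.Agent.TAB.Sm1.Op.lin (pk61l (fun i1 => (_root_.Prod.mk (pk61z (pk61d (nat_lit 61) 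
    (nat_lit 0xc702617dcb93d3c9fa7a7c47e73c5c2b7256f3a007ea78702a86435e9e7fed185f3ba7ccdbd4839e21cd504aa5e0a75a78250c98429a073374fdc1caf9a6c6fa50b48695fe54319e4d1d8a972230be774f99801e1185f3ba7ccc00f0fc55b5b09faf508fd129787f88782c3f74253e3eb1e9a702a86435e9e7f42f7f5c408ebda8a01cf10e6a82426fcec2c06c9950082e1f8ab6b613f3a880fc55b5b09faf50800008dccd4aaf28) i1)) (pk61d (nat_lit 7) 
    (nat_lit 0x18b0e0bf7aedcb76acd8af5aad4a7365c886f9e80) i1))) (nat_lit 0) (nat_lit 23) List.nil))) : List ℤ × Sm1.Op)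
    = ?xq9059 → (List ℤ × Sm1.Op)) ?hq9059; (case hq9059 => (set_option maxRecDepth 1000000 in conv => lhs; reduce)); intro _; exact ?xq9059 : List ℤ × Sm1.Op)
noncomputable def q109 : List ℤ × Sm1.Op :=
  (by
  refine (?fq9060 : ((_root_.Prod.mk (pk61l (fun i1 => (pk61z (pk61d (nat_lit 21) 
    (nat_lit 0x25f8000002f000030000140000400000) (pk61d (nat_lit 3) 
    (nat_lit 0x18040002002800005) i1)))) (nat_lit 0) (nat_lit 22) List.nil) (_root_.Cfsg.Agent.TAB.Sm1.Op.lin (pk61l (fun i1 => (_root_.Prod.mk (pk61z (pk61d (nat_lit 60) 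
    (nat_lit 0x21c0985f72e4f4f1fd3d3e23f39e2dfb7256f3a007ea77e0550c86bd3cffe4617cee9f336f511cf10e6a82552efa75a78250c9842a40e66e9fb8395f39b1be942d21a5802a18cf268ec54b9230be774f99801d230be774f99801d3f156d6c27ebd417e894bc3fc43c153f74253e3eb1e99e0550c86bd3cfe5bdfd71023af6a270e788735412137dec2c06c9950082d3f156d6c27e750f3f156d6c27ebd41000046e66a55793) i1)) (pk61d (nat_lit 7) 
    (nat_lit 0x18b0e0bf7aedcb76acd8af5aad4a7365c886f9e80) i1))) (nat_lit 0) (nat_lit 23) List.nil))) : List ℤ × Sm1.Op)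
    = ?xq9060 → (List ℤ × Sm1.Op)) ?hq9060; (case hq9060 => (set_option maxRecDepth 1000000 in conv => lhs; reduce)); intro _; exact ?xq9060 : List ℤ × Sm1.Op)

/-- the program -/
noncomputable def prog : List (List ℤ × Sm1.Op) := [
q2, q3, q4, q5, q6, q7, q8, q9, q10, q11, q12, q13, q14, q15, q16, q17, q18, q19, q20, q21, q22, q23, q24, q25, q26,
    q27, q28, q29, q30, q31, q32, q33, q34, q35, q36, q37, q38, q39, q40, q41, q42, q43, q44, q45, q46, q47, q48,
    q49, q50, q51, q52, q53, q54, q55, q56, q57, q58, q59, q60, q61, q62, q63, q64, q65, q66, q67, q68, q69, q70,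
    q71, q72, q73, q74, q75, q76, q77, q78, q79, q80, q81, q82, q83, q84, q85, q86, q87, q88, q89, q90, q91, q92,
    q93, q94, q95, q96, q97, q98, q99, q100, q101, q102, q103, q104, q105, q106, q107, q108, q109]

/-- the rows as combinations -/
def fin : List (List (ℤ × ℕ)) := [
[(1, 0)],
[(1, 105)],
[(1, 106)],
[(1, 97)],
[(1, 104)],
[(1, 87)],
[(1, 86)],
[(1, 102)],
[(1, 103)],
[(1, 62)],
[(1, 85)],
[(1, 61)],
[(1, 83)],
[(1, 93)],
[(1, 99)],
[(1, 84)],
[(1, 101)],
[(1, 107)],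
[(1, 75)],
[(1, 100)],
[(1, 109)],
[(1, 108)]]

theorem prog_ok : chkSlp dON true prog seeds = true := Pk.slp_of (2 ^ 175) (by decide +kernel)
theorem fin_ok : chkLin dON (seeds ++ prog.map Prod.fst) (tabON.rel.map Prod.snd) fin = true := by decide +kernel
theorem tab_ok : okR dON tabON = true := Pk.tab_of (by decide +kernel)

/-- **the table of the O'Nan group** -/
theorem exists_tab : ∃ T : TD ON dON, T.Mass ∧ Rat T ∧ (∀ r ∈ tabON.rel, Virt T (nth r.2)) ∧ Tab T tabON := by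
  have := KFacts.ON.Cent.finite_ON
  obtain ⟨T, hm, hr, hv, hc⟩ := exists_types
  have h1 : ∀ v ∈ seeds, Virt T (nth v) := by
    intro v hv'
    rcases List.mem_pair.1 hv' with rfl | rfl
    · exact (Virt.const 1).congr (by decide +kernel)
    · exact hv
  have h2 := virt_chkLin (virt_chkSlp (Hyp.true hm hr (by decide +kernel)) prog h1 prog_ok) fin_ok
  have h3 : ∀ r ∈ tabON.rel, Virt T (nth r.2) := fun r hr => h2 _ (List.mem_map_of_mem hr)
  exact ⟨T, hm, hr, h3, tab_of_cls hm h3 tab_ok hc⟩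

end Cfsg.Agent.TAB.ON
end

-- part: TAB/ON/Main
section
set_option linter.all false

/-!
# The O'Nan group : what VAN, ODD, GAL and KZ need (helper45, TAB)
-/

set_option autoImplicit false

namespace Cfsg.Agent.TAB.ON

open Cfsg Cfsg.Agent.TAB.Eng Cfsg.Agent.TAB.Use

theorem van : VAN.Van3 Spor.ON := by
  have := KFacts.ON.Cent.finite_ON
  obtain ⟨T, hm, -, -, h⟩ := exists_tab
  exact h.van3 (inh_of_mass hm (by decide +kernel)) hm.1 [(2, 9), (19, 1), (31, 1)] (by decide) 1 18 21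
    (by decide +kernel)

theorem odd : OddRat Spor.ON := by
  have := KFacts.ON.Cent.finite_ON
  obtain ⟨T, hm, -, -, h⟩ := exists_tab
  exact h.oddRat (inh_of_mass hm (by decide +kernel)) [] rfl (by decide +kernel)

theorem sig : OddSig Spor.ON := by
  have := KFacts.ON.Cent.finite_ON
  obtain ⟨T, hm, -, -, h⟩ := exists_tab
  exact h.oddSig (inh_of_mass hm (by decide +kernel)) [] rfl [] (fun _ h => nomatch h) (by decide +kernel)

theorem deg : DegList Spor.ON degL := by
  obtain ⟨T, -, -, -, h⟩ := exists_tab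
  exact h.degList

end Cfsg.Agent.TAB.ON
end
end
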